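import Cfsg.Agent.H814.SzEightMain
import Cfsg.Agent.H915.LD
import Cfsg.Agent.H912.MultChar
import Cfsg.Agent.S2112

/-!
# Cores with socle `Sz(8)` in degree at most 12, odd characteristic (helper814, T13 of LOWDIM)

Degree 8, self-dual, no alternating form, every invariant quadratic form has plus type.
-/

set_option autoImplicit false

namespace Cfsg.Agent.H814.Sz8

open Subgroup Matrix Cfsg.Agent.H915.LD Cfsg.Agent.LieRecognition.SzMatrix

universe u v

/-- a core gives a `PRep` if the scalars have square one -/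
theorem prep_of_core {ι : Type} [Fintype ι] [DecidableEq ι] {F : Type u} [Field F] [Finite F]
    {P : Subgroup (GL ι F)} (hC : Core P) {T : Type v} [Group T] (e : Soc P ≃* T)
    (hsq : ∀ z ∈ (Cfsg.Geo.scalars ι F).subgroupOf P, z * z = 1) :
    PRep (e.toMonoidHom.comp (toSoc P)) P.subtype := by
  refine ⟨e.surjective.comp (toSoc_surjective P), P.subtype_injective, ?_, hC.nonempty⟩
  intro k hk
  have h1 : k ∈ (Cfsg.Geo.scalars ι F).subgroupOf P := by
    rw [← ker_comp e]
    exact hk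
  have h2 := hsq k h1
  rw [Subgroup.mem_subgroupOf, Cfsg.Geo.mem_scalars_iff] at h1
  obtain ⟨c, hc⟩ := h1
  refine ⟨c, ?_, hc⟩
  have h3 := congrArg (fun g : P => ((g : GL ι F) : Matrix ι ι F)) h2
  simp only [Subgroup.coe_mul, Units.val_mul, Subgroup.coe_one, Units.val_one] at h3
  rw [hc, Matrix.smul_mul, Matrix.one_mul, smul_smul] at h3
  obtain ⟨i⟩ := hC.nonempty
  have h4 := congrFun (congrFun h3 i) i
  simpa using h4

/-- **Cores with socle `Sz(8)`.** -/
theorem core_sz8 {ι : Type} [Fintype ι] [DecidableEq ι] {F : Type u} [Field F] [Finite F]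
    {P : Subgroup (GL ι F)} (hC : Core P) (h2 : (2 : F) ≠ 0) (hn : Fintype.card ι ≤ 12) (hT : H912.Bd.IsSz8 (Soc P)) :
    Fintype.card ι = 8 ∧ SD P ∧ ¬ FixA P ∧ FixQ P ∧
      ∀ Q : (ι → F) → F, Cfsg.Geo.IsNondegenerateQuadraticForm Q → Cfsg.Geo.FixesQuadForm (Cfsg.Geo.matrixSet P) Q →
        Cfsg.Geo.IsPlusTypeOn Q ⊤ := by
  obtain ⟨K, iK, iKf, hK, ⟨e⟩⟩ := hT
  have hK' : Fintype.card K = 2 ^ (2 * 1 + 1) := hK
  have hmult : Cfsg.HasSchurMultiplier ↥(Cfsg.Lie.Sz K 4) (Multiplicative (ZMod 2 × ZMod 2)) := S2112.result hK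
  have hsq : ∀ z ∈ (Cfsg.Geo.scalars ι F).subgroupOf P, z * z = 1 := by
    intro z hz
    obtain ⟨f, hf⟩ := H95.StemCover.exists_surj_ker hmult hC.commutator_top (e.toMonoidHom.comp (toSoc P))
      (e.surjective.comp (toSoc_surjective P)) (by rw [ker_comp e]; exact scalars_le_center)
    have hz' : z ∈ (e.toMonoidHom.comp (toSoc P)).ker := by rw [ker_comp e]; exact hz
    obtain ⟨a, ha⟩ := hf ⟨z, hz'⟩
    have h3 : a * a = 1 := by
      revert a
      have : ∀ a : Multiplicative (ZMod 2 × ZMod 2), a * a = 1 := by decide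
      intro a _
      exact this a
    have h4 := congrArg f h3
    rw [map_mul, map_one, ha] at h4
    exact congrArg Subtype.val h4
  have R := prep_of_core hC e hsq
  obtain ⟨ψ, Y, m, D⟩ := exists_data (good hK') R hK h2 hn
  have hreal : H147.Sz.Real (good hK') := H147.Sz.real le_rfl hK'
  have hSD : SD P := fun g hg => D.trace_inv R hreal ⟨g, hg⟩
  have hnA : ¬ FixA P := by
    rintro ⟨f, hf, hfix⟩
    exact D.not_symplectic hf fun g u v => hfix _ ⟨(g : GL ι F), g.2, rfl⟩ u v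
  refine ⟨D.card, hSD, hnA, (hC.forms_of_sd hSD).resolve_right hnA, fun Q hQ hfix => ?_⟩
  exact D.plus R hK hQ fun g v => hfix _ ⟨(g : GL ι F), g.2, rfl⟩ v

end Cfsg.Agent.H814.Sz8
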