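import Cfsg.Agent.H814.NtriExp
import Cfsg.Agent.Mrg.Omega.Lie.End.RowFE

/-!
# S3876, row_char, P3b: the groups of Lie type of characteristic two with a symmetric group of degree three in every node

`hasTri_PSL`, `hasTri_POmegaPlus`, `hasTri_G2`, `hasTri_F4`, `hasTri_E6`, `hasTri_E7`, `hasTri_E8`, `hasTri_twE6`,
`hasTri_twD4`.
-/

set_option autoImplicit false
set_option linter.unusedSectionVars false

namespace Cfsg.Agent.H814.HasTriRows

open Cfsg CoxeterSystem Cfsg.Agent.ChevalleyStructure.CoxeterGeom Cfsg.Agent.Tits.Roots Cfsg.Agent.Tits.Core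
  Cfsg.Agent.Tits.RootComb Cfsg.Agent.Nodes.Comb Cfsg.Agent.Nodes.Reps Cfsg.Agent.Nodes.BNOf
open Cfsg.Agent.H443.PC Cfsg.Agent.H814.NtriExp


/-! ### `L_n(q)`, `PΩ⁺_{2m}(q)` -/

section psl

open Matrix Cfsg.Agent.Nodes.RootsA Cfsg.Agent.Nodes.RGDTypeA Cfsg.Agent.FixBN.PslGood
open Cfsg.Agent.LieRecognition.BNCox (cA)
open Cfsg.Agent.LieClassical.SLGen
open Cfsg.Agent.TitsThree.KSideA (tv tv_of_ne tv_add tv_zero tv_neg)
open Cfsg.Agent.KFacts.RgdCharP Cfsg.Agent.KFacts.SLRow Cfsg.Agent.Omega.Lie.End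

theorem tri_psl {F : Type*} [Field F] [Finite F] [CharP F 2] {n : ℕ} (hn : 2 ≤ n) :
    HasTri (ProjectiveSpecialLinearGroup (Fin (n + 1)) F) := by
  have : Fact (Nat.Prime 2) := ⟨Nat.prime_two⟩
  have hW : Finite (cA n).Group := finite_W (cA n).toCoxeterSystem (isCartan n)
  have R := rgd_psl (F := F) (p := 2) (cA n).toCoxeterSystem (isCartan n)
  refine ⟨n, cA n, AA n, isCartan n, _, _, _, ?_, hW, R, G1_psl_eq_top _ _, fun i => ntri_of_exp R ?_⟩
  · exact ⟨⟨0, by omega⟩, ⟨1, by omega⟩, fun e => by simpa using congrArg Fin.val e⟩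
  have hab : i.castSucc ≠ i.succ := (Fin.castSucc_lt_succ).ne
  intro x hx
  rw [X_sr, Subgroup.mem_map] at hx
  obtain ⟨_, ⟨a, rfl⟩, rfl⟩ := hx
  show pr n F (tv i.castSucc i.succ a) * pr n F (tv i.castSucc i.succ a) = 1
  rw [← map_mul, ← tv_add, CharTwo.add_self_eq_zero, tv_zero, map_one]

end psl

theorem hasTri_PSL {F : Type*} [Field F] [Finite F] [CharP F 2] {n : ℕ} (hn : 3 ≤ n) :
    HasTri (Matrix.ProjectiveSpecialLinearGroup (Fin n) F) := by
  obtain ⟨m, rfl⟩ : ∃ m, n = m + 1 := ⟨n - 1, by omega⟩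
  exact tri_psl (by omega)

section oplus

open QuadraticMap
open Cfsg.Agent.LieClassical Cfsg.Agent.LieClassical.OrthCore Cfsg.Agent.LieClassical.OrthTrans
open Cfsg.Agent.LieClassical.OrthSimple Cfsg.Agent.LieClassical.OrthFinite Cfsg.Agent.LieClassical.OrthForms
open Cfsg.Agent.TitsThree Cfsg.Agent.TitsThree.Siegel Cfsg.Agent.TitsThree.SiegelGen
  Cfsg.Agent.TitsThree.WittFrame Cfsg.Agent.TitsThree.WittWeyl Cfsg.Agent.TitsThree.WBridge
  Cfsg.Agent.TitsThree.KSideO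
open Cfsg.Agent.Nodes
open Cfsg.Agent.Nodes.WittInst
open Cfsg.Agent.Nodes.WittRoot (Amb XG ZG PG Mono)
open Cfsg.Agent.Nodes.WittRGD (Tor mem_Tor b_ne_zero)
open Cfsg.Agent.FixBN.WittNodeA Cfsg.Agent.FixBN.WittNodeB Cfsg.Agent.FixBN.WittNodeC Cfsg.Agent.FixBN.WittNodeD
open Cfsg.Agent.KFacts.RgdCharP Cfsg.Agent.KFacts.SLRow

theorem tri_oplus {F : Type} [Field F] [Finite F] [CharP F 2] {m : ℕ} (hm : 1 ≤ m) :
    HasTri (Cfsg.POmega F (Cfsg.quadFormPlus (m + 2) F)) := by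
  have : Fact (Nat.Prime 2) := ⟨Nat.prime_two⟩
  rw [← coe_plusForm]
  have hG : Good (plusForm (m + 2) F) := by
    apply good_of_finite (nondeg_plusForm (m + 2) F)
    rw [Module.finrank_fintype_fun_eq_card, Fintype.card_sum, Fintype.card_fin]
    omega
  have hW : Finite (TypeD.M m).Group := TypeD.finite_W (TypeD.M m).toCoxeterSystem
  have hA := amb_plus (F := F) (m + 2)
  set W := wplus (m + 2) F with hWd
  have hfin : Finite (((Fin (m + 2)) ⊕ (Fin (m + 2)) → F) ≃ₗ[F] ((Fin (m + 2)) ⊕ (Fin (m + 2)) → F)) :=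
    Finite.of_injective (fun g : ((Fin (m + 2)) ⊕ (Fin (m + 2)) → F) ≃ₗ[F] ((Fin (m + 2)) ⊕ (Fin (m + 2)) → F) =>
      (g : ((Fin (m + 2)) ⊕ (Fin (m + 2)) → F) → ((Fin (m + 2)) ⊕ (Fin (m + 2)) → F))) DFunLike.coe_injective
  have R := rgdD_model W hG (amb_plus _) (adm_plus _) (p := 2) (TypeD.M m).toCoxeterSystem
  refine ⟨m + 2, TypeD.M m, TypeD.A m, TypeD.isCartan m, _, _, _, ?_, hW, R,
    G1D_eq_top W (toPOmega hG) (toPOmega_surjective hG) (adm_plus _) _, fun i => ntri_of_exp R ?_⟩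
  · exact ⟨⟨0, by omega⟩, ⟨1, by omega⟩, fun e => by simpa using congrArg Fin.val e⟩
  rintro _ ⟨g, hg, rfl⟩
  have h1 : (g : ((Fin (m + 2)) ⊕ (Fin (m + 2)) → F) ≃ₗ[F] ((Fin (m + 2)) ⊕ (Fin (m + 2)) → F)) ∈
    WittRGDD.rg (toFrame W) (sr i) := hg
  rw [WittRGDD.rg_sr] at h1
  obtain ⟨a, ha⟩ := h1
  rw [← map_mul]
  have h2 : g * g = 1 := by
    apply Subtype.ext
    show (g : ((Fin (m + 2)) ⊕ (Fin (m + 2)) → F) ≃ₗ[F] ((Fin (m + 2)) ⊕ (Fin (m + 2)) → F)) *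
      (g : ((Fin (m + 2)) ⊕ (Fin (m + 2)) → F) ≃ₗ[F] ((Fin (m + 2)) ⊕ (Fin (m + 2)) → F)) = 1
    rw [ha, ← (toFrame W).X_add, CharTwo.add_self_eq_zero]
    exact (toFrame W).X_zero _ _
  rw [h2, map_one]

end oplus

theorem hasTri_POmegaPlus {F : Type} [Field F] [Finite F] [CharP F 2] {m : ℕ} (hm : 3 ≤ m) :
    HasTri (Cfsg.POmega F (Cfsg.quadFormPlus m F)) := by
  obtain ⟨m, rfl⟩ : ∃ k, m = k + 2 := ⟨m - 2, by omega⟩
  exact tri_oplus (by omega)

/-! ### Chevalley groups -/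

section chev

open Cfsg.Agent.Nodes.RGDChev Cfsg.Agent.KFacts.RgdChevCoord Cfsg.Agent.KFacts.RgdCharP
open Cfsg.Lie Cfsg.Agent.ChevalleyStructure Cfsg.Agent.ChevalleyStructure.Elts
  Cfsg.Agent.ChevalleyStructure.NPerm Cfsg.Agent.ChevalleyStructure.CoxeterGeomTypes
open Cfsg.Agent.Omega.Lie.End

universe u

theorem tri_chev {D : ChevalleyDatum} {l : ℕ} {M : CoxeterMatrix (Fin l)} (hp : IsType D l M) {K : Type u} [Field K]
    [Finite K] [CharP K 2] (hl : ∃ i j : Fin l, i ≠ j) : HasTri ↥(D.group K) := by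
  have : Fact (Nat.Prime 2) := ⟨Nat.prime_two⟩
  have R := rgd hp (K := K) M.toCoxeterSystem 2
  have hW := finite_W hp M.toCoxeterSystem
  refine ⟨l, M, _, hp.isCartan, TT D K, nc hp K, XX D l K, hl, hW, R, G1_eq_top hp M.toCoxeterSystem,
    fun i => ntri_of_exp R ?_⟩
  intro x hx
  have hi := simple_lt hp.inList (lt_rank hp i)
  have hv := vec_simple hp i
  rw [← hv] at hx
  obtain ⟨a, rfl⟩ := (mem_XX_chev hp hi).1 hx
  rw [xc_add hp hi, CharTwo.add_self_eq_zero, xc_zero hp hi]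

end chev

section exc

open Cfsg.Lie Cfsg.Agent.ChevalleyStructure Cfsg.Agent.ChevalleyStructure.CoxeterGeomTypes Cfsg.Agent.Nodes.RGDChev

universe u

set_option backward.isDefEq.respectTransparency false in
theorem hasTri_G2 (K : Type u) [Field K] [Finite K] [CharP K 2] : HasTri ↥(chevG2.group K) :=
  tri_chev (l := 2) (M := CoxeterMatrix.G₂) (by simp [IsType, typeList]) ⟨0, 1, by decide⟩

set_option backward.isDefEq.respectTransparency false in
theorem hasTri_F4 (K : Type u) [Field K] [Finite K] [CharP K 2] : HasTri ↥(chevF4.group K) :=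
  tri_chev (l := 4) (M := CoxeterMatrix.F₄) (by simp [IsType, typeList]) ⟨0, 1, by decide⟩

set_option backward.isDefEq.respectTransparency false in
theorem hasTri_E6 (K : Type u) [Field K] [Finite K] [CharP K 2] : HasTri ↥(chevE6.group K) :=
  tri_chev (l := 6) (M := CoxeterMatrix.E₆) (by simp [IsType, typeList]) ⟨0, 1, by decide⟩

set_option backward.isDefEq.respectTransparency false in
theorem hasTri_E7 (K : Type u) [Field K] [Finite K] [CharP K 2] : HasTri ↥(chevE7.group K) :=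
  tri_chev (l := 7) (M := CoxeterMatrix.E₇) (by simp [IsType, typeList]) ⟨0, 1, by decide⟩

set_option backward.isDefEq.respectTransparency false in
theorem hasTri_E8 (K : Type u) [Field K] [Finite K] [CharP K 2] : HasTri ↥(chevE8.group K) :=
  tri_chev (l := 8) (M := CoxeterMatrix.E₈) (by simp [IsType, typeList]) ⟨0, 1, by decide⟩

end exc

/-! ### The twisted groups -/

section tw

open Cfsg.Lie Cfsg.Agent.ChevalleyStructure
open Cfsg.Agent.Nodes.RGDFoldSL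
open Cfsg.Agent.ChevalleyStructure.SL2Hom (up lo)
open Cfsg.Agent.Omega.Lie.End

universe u

section twE6

open Cfsg.Agent.Nodes.RGDTwE6 Cfsg.Agent.Nodes.RGDTwNode.E6 Cfsg.Agent.KFacts.TwESix.Out

theorem hasTri_twE6 (K : Type u) [Field K] [Fintype K] [CharP K 2] {q : ℕ} (hq : IsPrimePow q)
    (hK : Fintype.card K = q ^ 2) : HasTri ↥(twistedE6 K q) := by
  have hp2 : Fact (Nat.Prime 2) := ⟨Nat.prime_two⟩
  obtain ⟨φ, hφ, hqq⟩ := TwE6Basic.exists_frob hq hK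
  have hW : Finite CoxeterMatrix.F₄.Group :=
    Cfsg.Agent.Nodes.RGDFold.finite_W (hp := hp) CoxeterMatrix.F₄.toCoxeterSystem isCartan foldData
  have R := rgd CoxeterMatrix.F₄.toCoxeterSystem hφ hqq 2
  refine ⟨4, CoxeterMatrix.F₄, A, isCartan, T K q, nn hφ, X φ q, ⟨0, 1, by decide⟩, hW, R, G1_eq_top _ hφ hqq,
    fun i => ntri_of_exp R ?_⟩
  have hc : CharP (KF φ i) 2 :=
    (RingHom.charP_iff (KF φ i).subtype (KF φ i).subtype_injective 2).2 inferInstance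
  intro x hx
  obtain ⟨a, rfl⟩ := (mem_X hφ hqq i x).1 hx
  exact TrSL.up_sq a

end twE6

open ParSys.Fam Cfsg.Agent.Nodes.RGDChev Cfsg.Agent.Nodes.RGDFold Cfsg.Agent.Nodes.RGDTwNode.D4 in
theorem hasTri_twD4 (K : Type u) [Field K] [Fintype K] [CharP K 2] {q : ℕ} (hq : IsPrimePow q)
    (hK : Fintype.card K = q ^ 3) : HasTri ↥(twistedD4 K q) := by
  have : Fact (Nat.Prime 2) := ⟨Nat.prime_two⟩
  obtain ⟨φ, hφ⟩ := D4Fixed.exists_frob hq hK
  have hle := D4Fixed.twisted_le_fix hK hφ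
  have hfin := Nodes.RGDChev.finite_W RowG2.hp D4.cs
  have R := Nodes.RGDTwD4.rgd (K := K) D4.cs hK hφ 2
  refine ⟨2, CoxeterMatrix.G₂, _, Nodes.RGDTwD4.isCartan, Nodes.RGDTwD4.T K q, Nodes.RGDTwD4.n hφ, Nodes.RGDTwD4.X φ q,
    ⟨0, 1, by decide⟩, hfin, R, Nodes.RGDTwD4.G1_eq_top D4.cs hK hφ, fun i => ntri_of_exp R ?_⟩
  have : CharP (Fx φ ((rest i).length + 1)) 2 := (Fx φ ((rest i).length + 1)).subtype.charP Subtype.val_injective 2
  intro x hx
  obtain ⟨a, rfl⟩ := (D4.mem_X hφ hle i x).1 hx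
  exact TrSL.up_sq a

end tw

end Cfsg.Agent.H814.HasTriRows
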