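import Cfsg.Agent.H814.G24Wt

/-!
# `G₂(4)`: degree at most 12 implies degree 12, and six weights of multiplicity two (helper814)
-/

set_option autoImplicit false
set_option linter.unusedSectionVars false

namespace Cfsg.Agent.H814.G24

open Subgroup Matrix Cfsg.Agent.H814

variable {P G : Type*} [Group P] [Group G] {φ : P →* G} {K : Type*} [Field K] [Fintype K]
  {ι : Type*} [Fintype ι] [DecidableEq ι] {F : Type*} [Field F] {ρ : P →* GL ι F}

/-- the weights -/
structure Dat (ρ : P →* GL ι F) (S : Sys φ K) : Prop where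
  card : Fintype.card ι = 12
  kap : m ρ S.κ = (-1 : F) • (1 : Matrix ι ι F)
  zero : ∀ a b, (a * b = 0 ∨ a * b = 1) → e ρ S (a, b) = 0
  two : ∀ a b, (a * b = S.om ∨ a * b = S.om + 1) → (e ρ S (a, b)).rank = 2

theorem exists_dat (R : PRep φ ρ) (S : Sys φ K) (hK : Fintype.card K = 4) (h2 : (2 : F) ≠ 0)
    (hn : Fintype.card ι ≤ 12) : Dat ρ S := by
  obtain ⟨σ, hσ1, hσ⟩ := R.ker S.κ S.φκ
  have hσ1' : σ = 1 ∨ σ = -1 := mul_self_eq_one_iff.1 hσ1
  have hom := S.hom
  have r1 : ∀ a b, (e ρ S (a, b)).rank = (e ρ S (S.om * S.om * a, S.om * b)).rank := fun a b =>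
    Wt.rank_conj (g := ρ S.h) (e_h S hK h2 a b)
  have r2 : ∀ a b, (e ρ S (a, b)).rank = (e ρ S (b, a)).rank := fun a b =>
    Wt.rank_conj (g := ρ S.w) (e_w S hK h2 a b)
  have hsum : ∑ c, (e ρ S c).rank = Fintype.card ι :=
    Wt.sum_rank (e_idem S hK h2) (fun _ _ h => e_orth S hK h2 h) (e_sum S hK h2)
  have hne := R.ne
  have hpos : 0 < Fintype.card ι := Fintype.card_pos
  rcases hσ1' with rfl | rfl
  · exfalso
    have r3 : ∀ a b u, (e ρ S (a, b)).rank = (e ρ S (a, b + a * u)).rank := fun a b u =>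
      Wt.rank_conj (g := ρ (S.B u)) (e_B1 S hK h2 hσ a b u)
    have r4 : ∀ b, (e ρ S (1, b)).rank = (e ρ S (1, 0)).rank := by
      intro b
      rw [r3 1 0 b, zero_add, one_mul]
    have r5 : ∀ a b, a ≠ 0 → (e ρ S (a, b)).rank = (e ρ S (1, 0)).rank := by
      intro a b ha
      rw [comb_one (r := fun c => (e ρ S c).rank) hK hom r1 a b ha, r4]
    have r6 : ∀ c : K × K, c ≠ 0 → (e ρ S c).rank = (e ρ S (1, 0)).rank := by
      rintro ⟨a, b⟩ hc
      by_cases ha : a = 0
      · subst ha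
        have hb : b ≠ 0 := fun hb => hc (by rw [hb]; rfl)
        rw [r2, r5 b 0 hb]
      · exact r5 a b ha
    have h15 : 15 * (e ρ S (1, 0)).rank ≤ Fintype.card ι := by
      classical
      rw [← hsum]
      calc 15 * (e ρ S (1, 0)).rank = ∑ c ∈ (Finset.univ : Finset (K × K)).erase 0, (e ρ S c).rank := by
            rw [Finset.sum_congr rfl (fun c hc => r6 c (Finset.ne_of_mem_erase hc)), Finset.sum_const,
              Finset.card_erase_of_mem (Finset.mem_univ _), Finset.card_univ, Fintype.card_prod, hK, smul_eq_mul]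
        _ ≤ _ := Finset.sum_le_sum_of_subset (Finset.subset_univ _)
    have h0 : (e ρ S (1, 0)).rank = 0 := by omega
    have h1 : ∀ c : K × K, c ≠ 0 → e ρ S c = 0 := fun c hc => Wt.eq_zero_of_rank (by rw [r6 c hc, h0])
    have h3 : e ρ S 0 = 1 := by
      have := e_sum (ρ := ρ) S hK h2
      rwa [Finset.sum_eq_single (0 : K × K) (fun c _ hc => h1 c hc) (fun hn => absurd (Finset.mem_univ _) hn)] at this
    have h4 := Y_e (ρ := ρ) S hK h2 1 0
    rw [h3, Matrix.mul_one, Prod.fst_zero, zero_mul, ps_zero, one_smul] at h4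
    have h5 : S.Y 1 = 1 := by
      apply R.inj
      apply Units.ext
      rw [map_one, Units.val_one]
      exact h4
    exact one_ne_zero (S.Y_inj 1 (by rw [h5, map_one]))
  · have r3 : ∀ a b u, (e ρ S (a, b)).rank = (e ρ S (a, b + a * u + u * u)).rank := fun a b u =>
      Wt.rank_conj (g := ρ (S.B u)) (e_B S hK h2 hσ a b u)
    obtain ⟨c1, c2⟩ := comb_main (r := fun c => (e ρ S c).rank) hK hom r1 r2 r3
    have hs := comb_sum (r := fun c => (e ρ S c).rank) hK hom c1 c2
    rw [hsum] at hs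
    obtain ⟨x, hx⟩ := rank_even (ρ := ρ) S hK h2 (a := 1) (b := 0) one_ne_zero
    obtain ⟨y, hy⟩ := rank_even (ρ := ρ) S hK h2 (a := 1) (b := S.om) one_ne_zero
    rw [hx, hy] at hs
    have hx0 : x = 0 := by omega
    have hy1 : y = 1 := by omega
    subst hx0
    subst hy1
    refine ⟨by omega, hσ, fun a b h => ?_, fun a b h => ?_⟩
    · exact Wt.eq_zero_of_rank (by rw [c1 a b h, hx])
    · rw [c2 a b h, hy]

end Cfsg.Agent.H814.G24
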