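import Cfsg.Agent.H814.PRep

/-!
# The field with four elements and its additive characters (helper814)
-/

set_option autoImplicit false
set_option linter.unusedSectionVars false

namespace Cfsg.Agent.H814.G24

open Cfsg.Agent.H814

section four

variable {K : Type*} [Field K] [Fintype K] (hK : Fintype.card K = 4)

include hK in
theorem charP_of_four : CharP K 2 := by
  obtain ⟨p, hp⟩ := CharP.exists K
  obtain ⟨n, hpp, hn⟩ := FiniteField.card K p
  have h2 : p ∣ 2 ^ 2 := by
    rw [show (2 : ℕ) ^ 2 = 4 by norm_num, ← hK, hn]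
    exact dvd_pow_self p n.ne_zero
  have h3 : p = 2 := (Nat.prime_dvd_prime_iff_eq hpp Nat.prime_two).1 (hpp.dvd_of_dvd_pow h2)
  rwa [h3] at hp

include hK in
theorem two_four : (2 : K) = 0 := by
  have := charP_of_four hK
  exact CharTwo.two_eq_zero

include hK in
theorem add_self_four (x : K) : x + x = 0 := by
  have := charP_of_four hK
  exact CharTwo.add_self_eq_zero x

variable {om : K} (hom : om * om + om + 1 = 0)
include hom

theorem om_ne_zero : om ≠ 0 := by
  rintro rfl
  rw [mul_zero, zero_add, zero_add] at hom
  exact one_ne_zero hom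

include hK in
theorem om_ne_one : om ≠ 1 := by
  rintro rfl
  have h1 : (1 : K) = 0 := by linear_combination hom - two_four hK
  exact one_ne_zero h1

include hK in
theorem om1_ne_zero : om + 1 ≠ 0 := by
  intro h
  apply om_ne_one hK hom
  linear_combination h - two_four hK

include hK in
theorem om1_ne_one : om + 1 ≠ 1 := by
  intro h
  apply om_ne_zero hom
  linear_combination h

include hK in
theorem om_ne_om1 : om ≠ om + 1 := by
  intro h
  apply one_ne_zero (α := K)
  linear_combination -h

include hK in
theorem om_sq : om * om = om + 1 := by linear_combination hom - (om + 1) * two_four hK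

include hK in
theorem om_mul_om1 : om * (om + 1) = 1 := by linear_combination hom - two_four hK

include hK in
theorem om1_mul_om : (om + 1) * om = 1 := by linear_combination hom - two_four hK

include hK in
theorem om1_sq : (om + 1) * (om + 1) = om := by linear_combination hom

include hK in
theorem univ_four [DecidableEq K] : (Finset.univ : Finset K) = {0, 1, om, om + 1} := by
  symm
  apply Finset.eq_univ_of_card
  rw [hK]
  rw [Finset.card_insert_of_notMem, Finset.card_insert_of_notMem, Finset.card_insert_of_notMem, Finset.card_singleton]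
  · rw [Finset.mem_singleton]
    exact om_ne_om1 hK hom
  · simp only [Finset.mem_insert, Finset.mem_singleton, not_or]
    exact ⟨(om_ne_one hK hom).symm, (om1_ne_one hK hom).symm⟩
  · simp only [Finset.mem_insert, Finset.mem_singleton, not_or]
    exact ⟨zero_ne_one, (om_ne_zero hom).symm, (om1_ne_zero hK hom).symm⟩

include hK in
theorem cases_four (x : K) : x = 0 ∨ x = 1 ∨ x = om ∨ x = om + 1 := by
  classical
  have h := Finset.mem_univ x
  rw [univ_four hK hom] at h
  simpa only [Finset.mem_insert, Finset.mem_singleton] using h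

include hK in
theorem sum_four {M : Type*} [AddCommMonoid M] (f : K → M) : ∑ x, f x = f 0 + (f 1 + (f om + f (om + 1))) := by
  classical
  rw [univ_four hK hom, Finset.sum_insert, Finset.sum_insert, Finset.sum_insert, Finset.sum_singleton]
  · rw [Finset.mem_singleton]
    exact om_ne_om1 hK hom
  · simp only [Finset.mem_insert, Finset.mem_singleton, not_or]
    exact ⟨(om_ne_one hK hom).symm, (om1_ne_one hK hom).symm⟩
  · simp only [Finset.mem_insert, Finset.mem_singleton, not_or]
    exact ⟨zero_ne_one, (om_ne_zero hom).symm, (om1_ne_zero hK hom).symm⟩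

end four

section psi

variable {K : Type*} [Field K] (F : Type*) [Field F]

/-- the additive character `x ↦ (-1)^{tr x}` -/
noncomputable def ps (x : K) : F := by
  classical exact if x = 0 ∨ x = 1 then 1 else -1

variable [Fintype K] (hK : Fintype.card K = 4) {om : K} (hom : om * om + om + 1 = 0)

theorem ps_zero : ps F (0 : K) = 1 := by
  unfold ps
  simp

theorem ps_one : ps F (1 : K) = 1 := by
  unfold ps
  simp

theorem ps_eq (x : K) : ps F x = 1 ∨ ps F x = -1 := by
  unfold ps
  split_ifs
  · exact Or.inl rfl
  · exact Or.inr rfl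

theorem ps_sq (x : K) : ps F x * ps F x = 1 := by
  rcases ps_eq F x with h | h <;> rw [h] <;> ring

include hK hom in
theorem ps_om : ps F om = -1 := by
  unfold ps
  rw [if_neg]
  exact not_or.2 ⟨om_ne_zero hom, om_ne_one hK hom⟩

include hK hom in
theorem ps_om1 : ps F (om + 1) = -1 := by
  unfold ps
  rw [if_neg]
  exact not_or.2 ⟨om1_ne_zero hK hom, om1_ne_one hK hom⟩

include hK hom in
theorem ps_add (x y : K) : ps F (x + y) = ps F x * ps F y := by
  have h2 := two_four hK
  have e1 : (1 : K) + 1 = 0 := add_self_four hK 1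
  have e2 : om + om = 0 := add_self_four hK om
  have e3 : (om + 1) + (om + 1) = 0 := add_self_four hK _
  have e4 : om + (om + 1) = 1 := by linear_combination e2
  have e5 : (om + 1) + om = 1 := by linear_combination e2
  have e6 : (om + 1) + 1 = om := by linear_combination e1
  have e7 : 1 + (om + 1) = om := by linear_combination e1
  have e8 : 1 + om = om + 1 := add_comm _ _
  rcases cases_four hK hom x with rfl | rfl | rfl | rfl <;> rcases cases_four hK hom y with h | h | h | h <;>
    rw [h] <;> simp only [zero_add, add_zero, e1, e2, e3, e4, e5, e6, e7, e8, ps_zero, ps_one, ps_om F hK hom,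
      ps_om1 F hK hom, one_mul, mul_one, mul_neg, neg_neg]

include hK hom in
theorem pair_ps (h2 : (2 : F) ≠ 0) : Wt.Pair (fun c a : K => ps F (c * a)) := by
  have hs : ∑ a : K, ps F a = 0 := by
    rw [sum_four hK hom, ps_zero, ps_one, ps_om F hK hom, ps_om1 F hK hom]
    ring
  have hsum : ∀ c : K, c ≠ 0 → ∑ a, ps F (c * a) = 0 := by
    intro c hc
    rw [← hs]
    exact Equiv.sum_comp (Equiv.mulLeft₀ c hc) (fun a => ps F a)
  refine ⟨fun c c' a => ?_, fun c a a' => ?_, fun c a => ps_sq F _, fun a ha => ?_, hsum, ?_,
    fun a => add_self_four hK a⟩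
  · rw [add_mul, ps_add F hK hom]
  · rw [mul_add, ps_add F hK hom]
  · simp only [mul_comm _ a]
    exact hsum a ha
  · rw [hK]
    push_cast
    have : (4 : F) = 2 * 2 := by norm_num
    rw [this]
    exact mul_ne_zero h2 h2

end psi

/-- products of pairings -/
theorem pair_prod {A B F : Type*} [AddCommGroup A] [AddCommGroup B] [Fintype A] [Fintype B] [Field F] {χ : A → A → F}
    {χ' : B → B → F} (h : Wt.Pair χ) (h' : Wt.Pair χ') : Wt.Pair (fun c a : A × B => χ c.1 a.1 * χ' c.2 a.2) := by
  refine ⟨fun c c' a => ?_, fun c a a' => ?_, fun c a => ?_, fun a ha => ?_, fun c hc => ?_, ?_, fun a => ?_⟩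
  · simp only [Prod.fst_add, Prod.snd_add, h.add_left, h'.add_left]
    ring
  · simp only [Prod.fst_add, Prod.snd_add, h.add_right, h'.add_right]
    ring
  · linear_combination (χ' c.2 a.2 * χ' c.2 a.2) * h.sq c.1 a.1 + h'.sq c.2 a.2
  · rw [Fintype.sum_prod_type]
    simp only [← Finset.mul_sum, ← Finset.sum_mul]
    by_cases h1 : a.1 = 0
    · have h2 : a.2 ≠ 0 := fun h2 => ha (Prod.ext h1 h2)
      rw [h'.sum_left _ h2, mul_zero]
    · rw [h.sum_left _ h1, zero_mul]
  · rw [Fintype.sum_prod_type]
    simp only [← Finset.mul_sum, ← Finset.sum_mul]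
    by_cases h1 : c.1 = 0
    · have h2 : c.2 ≠ 0 := fun h2 => hc (Prod.ext h1 h2)
      rw [h'.sum_right _ h2, mul_zero]
    · rw [h.sum_right _ h1, zero_mul]
  · rw [Fintype.card_prod]
    push_cast
    exact mul_ne_zero h.card h'.card
  · exact Prod.ext (h.two _) (h'.two _)

end Cfsg.Agent.H814.G24
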