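import Cfsg.Agent.H814.PRep

/-!
# Central extensions of `G₂(4)` with kernel of exponent two: the interface (helper814)

Roots: short `a`, long `b`; positive roots `a, b, a+b, 2a+b, 3a+b, 3a+2b`.
`φ : P → G` is onto, `G = G₂(K)`, `|K| = 4`, the kernel is central and `k * k = 1` there.
`Y, E, B` are the canonical (torus equivariant, additive) lifts of the root groups `3a+2b, 3a+b, b`;
`C, D, X, X'` are arbitrary lifts of the root elements of `a+b, 2a+b, a, -a`;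
`h, k, w` are arbitrary lifts of `h_b(om), h_a(om), w_b`.
-/

set_option autoImplicit false

namespace Cfsg.Agent.H814.G24

open Subgroup

/-- the data used in the representation theory -/
structure Sys {P G : Type*} [Group P] [Group G] (φ : P →* G) (K : Type*) [Field K] where
  om : K
  hom : om * om + om + 1 = 0
  /-- `3a+2b` -/
  Y : K → P
  /-- `3a+b` -/
  E : K → P
  /-- `b` -/
  B : K → P
  /-- `a+b` -/
  C : K → P
  /-- `2a+b` -/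
  D : K → P
  /-- `a` -/
  X : K → P
  /-- `-a` -/
  X' : K → P
  /-- `h_b(om)` -/
  h : P
  /-- `h_a(om)` -/
  k : P
  /-- `w_b` -/
  w : P
  /-- in the kernel -/
  κ : P
  φκ : φ κ = 1
  Y_add : ∀ s t, Y (s + t) = Y s * Y t
  E_add : ∀ s t, E (s + t) = E s * E t
  B_add : ∀ s t, B (s + t) = B s * B t
  C_add : ∀ s t, φ (C (s + t)) = φ (C s) * φ (C t)
  D_add : ∀ s t, φ (D (s + t)) = φ (D s) * φ (D t)
  Y_inj : ∀ t, φ (Y t) = 1 → t = 0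
  YE : ∀ s t, Y s * E t = E t * Y s
  YB : ∀ s t, Y s * B t = B t * Y s
  YC : ∀ s t, Y s * C t = C t * Y s
  YD : ∀ s t, Y s * D t = D t * Y s
  YX : ∀ s t, Y s * X t = X t * Y s
  YX' : ∀ s t, Y s * X' t = X' t * Y s
  EC : ∀ s t, E s * C t = C t * E s
  ED : ∀ s t, E s * D t = D t * E s
  BC : ∀ s t, B s * C t = C t * B s
  BD : ∀ s t, B s * D t = D t * B s
  CD : ∀ t u, C t * D u = D u * C t * Y (t * u)
  BE : ∀ u t, (u = 0 ∨ t = 0 ∨ u = t) → B u * E t = E t * B u * Y (t * u)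
  BE' : ∀ u t, u ≠ 0 → t ≠ 0 → u ≠ t → B u * E t = E t * B u * Y (t * u) * κ
  hY : ∀ t, h * Y t * h⁻¹ = Y (om * t)
  hE : ∀ t, h * E t * h⁻¹ = E (om * om * t)
  hB : ∀ t, h * B t * h⁻¹ = B (om * om * t)
  hC : ∀ t, φ h * φ (C t) * (φ h)⁻¹ = φ (C (om * t))
  hD : ∀ t, φ h * φ (D t) * (φ h)⁻¹ = φ (D t)
  kY : ∀ t, k * Y t = Y t * k
  kC : ∀ t, φ k * φ (C t) * (φ k)⁻¹ = φ (C (om * om * t))
  kD : ∀ t, φ k * φ (D t) * (φ k)⁻¹ = φ (D (om * t))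
  kX : ∀ t, φ k * φ (X t) * (φ k)⁻¹ = φ (X (om * om * t))
  kX' : ∀ t, φ k * φ (X' t) * (φ k)⁻¹ = φ (X' (om * t))
  X_add : ∀ s t, φ (X (s + t)) = φ (X s) * φ (X t)
  X'_add : ∀ s t, φ (X' (s + t)) = φ (X' s) * φ (X' t)
  hh : φ h ^ 3 = 1
  wY : ∀ t, w * Y t * w⁻¹ = E t
  wE : ∀ t, w * E t * w⁻¹ = Y t
  wD : ∀ t, φ w * φ (D t) * (φ w)⁻¹ = φ (D t)
  wh : φ w * φ h * (φ w)⁻¹ = (φ h)⁻¹
  ww : φ w * φ w = 1
  wB : (φ w * φ (B 1)) ^ 3 = 1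
  /-- `X a`, `X (-a)` and the torus normalise `Q = ⟨b, a+b, 2a+b, 3a+b, 3a+2b⟩` -/
  norm : ∀ Q : Subgroup G, Q = closure (Set.range (fun t => φ (B t)) ∪ Set.range (fun t => φ (C t)) ∪
      Set.range (fun t => φ (D t)) ∪ Set.range (fun t => φ (E t)) ∪ Set.range (fun t => φ (Y t))) →
    ∀ g : P, (g = k ∨ (∃ t, g = X t) ∨ (∃ t, g = X' t)) → ∀ q ∈ Q, φ g * q * (φ g)⁻¹ ∈ Q
  gen : ∀ S : Subgroup P, φ.ker ≤ S → (∀ t, X t ∈ S) → (∀ t, X' t ∈ S) → (∀ t, B t ∈ S) → w ∈ S → S = ⊤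

end Cfsg.Agent.H814.G24
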