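import Cfsg.Agent.H814.G24Fld
import Cfsg.Agent.H814.G24Sys

/-!
# Weights of a representation of an extension of `G₂(4)` (helper814)
-/

set_option autoImplicit false
set_option linter.unusedSectionVars false

namespace Cfsg.Agent.H814.G24

open Subgroup Matrix Cfsg.Agent.H814

/-! ### the combinatorics of the sixteen weights -/

section comb

variable {K : Type*} [Field K] [Fintype K] (hK : Fintype.card K = 4) {om : K} (hom : om * om + om + 1 = 0)
include hK hom

theorem comb_sum {r : K × K → ℕ} {x y : ℕ} (h1 : ∀ a b, (a * b = 0 ∨ a * b = 1) → r (a, b) = x)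
    (h2 : ∀ a b, (a * b = om ∨ a * b = om + 1) → r (a, b) = y) : ∑ c, r c = 10 * x + 6 * y := by
  have q1 := om_sq hK hom
  have q2 := om_mul_om1 hK hom
  have q3 := om1_mul_om hK hom
  have q4 := om1_sq hK hom
  rw [Fintype.sum_prod_type]
  simp only [sum_four hK hom]
  rw [h1 0 0 (by simp), h1 0 1 (by simp), h1 0 om (by simp), h1 0 (om + 1) (by simp),
    h1 1 0 (by simp), h1 1 1 (by simp), h2 1 om (by simp), h2 1 (om + 1) (by simp),
    h1 om 0 (by simp), h2 om 1 (by simp), h2 om om (Or.inr q1), h1 om (om + 1) (Or.inr q2),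
    h1 (om + 1) 0 (by simp), h2 (om + 1) 1 (by simp), h1 (om + 1) om (Or.inr q3), h2 (om + 1) (om + 1) (Or.inl q4)]
  ring

theorem comb_one {M : Type*} {r : K × K → M} (r1 : ∀ a b, r (a, b) = r (om * om * a, om * b)) (a b : K) (ha : a ≠ 0) :
    r (a, b) = r (1, a * b) := by
  have q1 := om_sq hK hom
  have hcube : om * om * om = 1 := by rw [q1]; exact om1_mul_om hK hom
  have key : ∀ b, r (om, b) = r (1, om * b) := fun b => by rw [r1, hcube]
  rcases cases_four hK hom a with rfl | rfl | rfl | rfl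
  · exact absurd rfl ha
  · rw [one_mul]
  · exact key b
  · rw [r1, ← q1]
    have e1 : om * om * (om * om) = om := by linear_combination om * hcube
    rw [e1, key, ← mul_assoc]

theorem comb_main {M : Type*} {r : K × K → M} (r1 : ∀ a b, r (a, b) = r (om * om * a, om * b))
    (r2 : ∀ a b, r (a, b) = r (b, a)) (r3 : ∀ a b u, r (a, b) = r (a, b + a * u + u * u)) :
    (∀ a b, (a * b = 0 ∨ a * b = 1) → r (a, b) = r (1, 0)) ∧
      ∀ a b, (a * b = om ∨ a * b = om + 1) → r (a, b) = r (1, om) := by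
  have rB : ∀ x, r (1, x) = r (1, x + 1) := by
    intro x
    rw [r3 1 x om]
    congr 2
    linear_combination hom - two_four hK
  have rC : r (0, 0) = r (1, 0) := by
    rw [r3 0 0 1, r2]
    congr 2
    ring
  refine ⟨fun a b h => ?_, fun a b h => ?_⟩
  · by_cases ha : a = 0
    · subst ha
      by_cases hb : b = 0
      · subst hb
        exact rC
      · rw [r2, comb_one hK hom r1 b 0 hb, mul_zero]
    · rw [comb_one hK hom r1 a b ha]
      rcases h with h | h
      · rw [h]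
      · rw [h, rB 0, zero_add]
  · have ha : a ≠ 0 := by
      rintro rfl
      rw [zero_mul] at h
      rcases h with h | h
      · exact om_ne_zero hom h.symm
      · exact om1_ne_zero hK hom h.symm
    rw [comb_one hK hom r1 a b ha]
    rcases h with h | h
    · rw [h]
    · rw [h, rB om]

end comb

/-! ### matrices -/

section mats

variable {P : Type*} [Group P] {ι : Type*} [Fintype ι] [DecidableEq ι] {F : Type*} [Field F]

/-- the matrix of an element -/
abbrev m (ρ : P →* GL ι F) (g : P) : Matrix ι ι F := ((ρ g : GL ι F) : Matrix ι ι F)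

variable {ρ : P →* GL ι F}

theorem m_mul (g g' : P) : m ρ (g * g') = m ρ g * m ρ g' := by rw [m, map_mul, Units.val_mul]

theorem m_one : m ρ (1 : P) = 1 := by rw [m, map_one, Units.val_one]

theorem m_inv_mul (g : P) : m ρ g⁻¹ * m ρ g = 1 := by rw [← m_mul, inv_mul_cancel, m_one]

theorem m_mul_inv (g : P) : m ρ g * m ρ g⁻¹ = 1 := by rw [← m_mul, mul_inv_cancel, m_one]

theorem m_isUnit (g : P) : IsUnit (m ρ g) := ⟨ρ g, rfl⟩

theorem m_comm {g g' : P} (h : g * g' = g' * g) : m ρ g * m ρ g' = m ρ g' * m ρ g := by rw [← m_mul, h, m_mul]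

theorem m_conj {g a b : P} (h : g * a * g⁻¹ = b) : m ρ g * m ρ a = m ρ b * m ρ g := by
  rw [← m_mul, ← m_mul, ← h, inv_mul_cancel_right]

end mats

variable {P G : Type*} [Group P] [Group G] {φ : P →* G} {K : Type*} [Field K] [Fintype K]
  {ι : Type*} [Fintype ι] [DecidableEq ι] {F : Type*} [Field F] {ρ : P →* GL ι F}

/-- the pairing on `K × K` -/
noncomputable def chi (K F : Type*) [Field K] [Field F] (c a : K × K) : F := ps F (c.1 * a.1) * ps F (c.2 * a.2)

/-- the matrices of the group `X_{3a+2b} X_{3a+b}` -/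
noncomputable def YE (ρ : P →* GL ι F) (S : Sys φ K) (a : K × K) : Matrix ι ι F := m ρ (S.Y a.1 * S.E a.2)

/-- the weight idempotents -/
noncomputable def e (ρ : P →* GL ι F) (S : Sys φ K) (c : K × K) : Matrix ι ι F := Wt.E (chi K F) (YE ρ S) c

section basic

variable (S : Sys φ K)

theorem Y_zero : S.Y 0 = 1 := by
  have h := S.Y_add 0 0
  rw [add_zero] at h
  exact left_eq_mul.1 h

theorem E_zero : S.E 0 = 1 := by
  have h := S.E_add 0 0
  rw [add_zero] at h
  exact left_eq_mul.1 h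

theorem B_zero : S.B 0 = 1 := by
  have h := S.B_add 0 0
  rw [add_zero] at h
  exact left_eq_mul.1 h

theorem YE_add (a b : K × K) : YE ρ S (a + b) = YE ρ S a * YE ρ S b := by
  unfold YE
  rw [← m_mul, Prod.fst_add, Prod.snd_add, S.Y_add, S.E_add]
  congr 1
  calc S.Y a.1 * S.Y b.1 * (S.E a.2 * S.E b.2) = S.Y a.1 * (S.Y b.1 * S.E a.2) * S.E b.2 := by group
    _ = S.Y a.1 * (S.E a.2 * S.Y b.1) * S.E b.2 := by rw [S.YE]
    _ = _ := by group

theorem YE_zero : YE ρ S 0 = 1 := by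
  unfold YE
  rw [Prod.fst_zero, Prod.snd_zero, Y_zero, E_zero, mul_one, m_one]

variable (hK : Fintype.card K = 4) (h2 : (2 : F) ≠ 0)

include S hK h2 in
theorem pair_chi : Wt.Pair (chi K F) := pair_prod (pair_ps F hK S.hom h2) (pair_ps F hK S.hom h2)

include hK h2

theorem e_idem (c : K × K) : e ρ S c * e ρ S c = e ρ S c := Wt.E_mul_E_self (pair_chi S hK h2) (YE_add S) c

theorem e_orth {c c' : K × K} (h : c ≠ c') : e ρ S c * e ρ S c' = 0 := Wt.E_mul_E (pair_chi S hK h2) (YE_add S) h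

theorem e_sum : ∑ c, e ρ S c = 1 := Wt.sum_E (pair_chi S hK h2) (YE_zero S)

theorem Y_e (s : K) (c : K × K) : m ρ (S.Y s) * e ρ S c = ps F (c.1 * s) • e ρ S c := by
  have h := Wt.Y_mul_E (pair_chi S hK h2) (YE_add (ρ := ρ) S) (s, 0) c
  unfold YE chi at h
  simp only [E_zero, mul_one, mul_zero, ps_zero] at h
  exact h

theorem E_e (t : K) (c : K × K) : m ρ (S.E t) * e ρ S c = ps F (c.2 * t) • e ρ S c := by
  have h := Wt.Y_mul_E (pair_chi S hK h2) (YE_add (ρ := ρ) S) (0, t) c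
  unfold YE chi at h
  simp only [Y_zero, one_mul, mul_zero, ps_zero] at h
  exact h

theorem e_comm {g : P} (h1 : ∀ s, S.Y s * g = g * S.Y s) (h3 : ∀ s, S.E s * g = g * S.E s) (c : K × K) :
    m ρ g * e ρ S c = e ρ S c * m ρ g := by
  apply Wt.comm_E
  intro a
  unfold YE
  apply m_comm
  rw [← mul_assoc, ← h1, mul_assoc, ← h3, mul_assoc]

theorem e_C (t : K) (c : K × K) : m ρ (S.C t) * e ρ S c = e ρ S c * m ρ (S.C t) :=
  e_comm S hK h2 (fun s => S.YC s t) (fun s => S.EC s t) c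

theorem e_D (t : K) (c : K × K) : m ρ (S.D t) * e ρ S c = e ρ S c * m ρ (S.D t) :=
  e_comm S hK h2 (fun s => S.YD s t) (fun s => S.ED s t) c

theorem e_h (a b : K) : m ρ S.h * e ρ S (a, b) = e ρ S (S.om * S.om * a, S.om * b) * m ρ S.h := by
  have q1 := om_sq hK S.hom
  have hcube : S.om * S.om * S.om = 1 := by rw [q1]; exact om1_mul_om hK S.hom
  have h0 := om_ne_zero S.hom
  refine Wt.conj_E (Y := YE ρ S) (χ := chi K F) (m ρ S.h) (L := fun a => (S.om * a.1, S.om * S.om * a.2)) ?_ (m := fun _ => 1) ?_ ?_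
  · apply Finite.injective_iff_bijective.1
    intro x y hxy
    obtain ⟨h3, h4⟩ := Prod.mk.inj hxy
    exact Prod.ext (mul_left_cancel₀ h0 h3) (mul_left_cancel₀ (mul_ne_zero h0 h0) h4)
  · intro x
    rw [one_smul]
    unfold YE
    apply m_conj
    rw [← S.hY, ← S.hE]
    group
  · intro x
    unfold chi
    simp only
    rw [mul_one]
    congr 2
    · linear_combination (a * x.1) * hcube
    · linear_combination (b * x.2) * hcube

theorem e_w (a b : K) : m ρ S.w * e ρ S (a, b) = e ρ S (b, a) * m ρ S.w := by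
  refine Wt.conj_E (Y := YE ρ S) (χ := chi K F) (m ρ S.w) (L := fun a => (a.2, a.1)) ?_ (m := fun _ => 1) ?_ ?_
  · apply Finite.injective_iff_bijective.1
    intro x y hxy
    obtain ⟨h3, h4⟩ := Prod.mk.inj hxy
    exact Prod.ext h4 h3
  · intro x
    rw [one_smul]
    unfold YE
    apply m_conj
    simp only
    have : S.w * (S.Y x.1 * S.E x.2) * S.w⁻¹ = (S.w * S.Y x.1 * S.w⁻¹) * (S.w * S.E x.2 * S.w⁻¹) := by group
    rw [this, S.wY, S.wE, S.YE]
  · intro x
    unfold chi
    simp only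
    rw [mul_one, mul_comm]

/-- the sign of `κ` -/
theorem B_YE {σ : F} (hσ : m ρ S.κ = σ • (1 : Matrix ι ι F)) (u : K) (x : K × K) :
    ∃ τ : F, ((u = 0 ∨ x.2 = 0 ∨ u = x.2) → τ = 1) ∧ (¬ (u = 0 ∨ x.2 = 0 ∨ u = x.2) → τ = σ) ∧
      m ρ (S.B u) * YE ρ S x = τ • (YE ρ S (x.1 + x.2 * u, x.2) * m ρ (S.B u)) := by
  have e1 : ∀ z : P, S.B u * S.E x.2 = S.E x.2 * S.B u * S.Y (x.2 * u) * z →
      S.B u * (S.Y x.1 * S.E x.2) = S.Y (x.1 + x.2 * u) * S.E x.2 * S.B u * z := by
    intro z hz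
    calc S.B u * (S.Y x.1 * S.E x.2) = (S.B u * S.Y x.1) * S.E x.2 := by group
      _ = S.Y x.1 * (S.B u * S.E x.2) := by rw [← S.YB]; group
      _ = S.Y x.1 * S.E x.2 * (S.B u * S.Y (x.2 * u)) * z := by rw [hz]; group
      _ = S.Y x.1 * (S.E x.2 * S.Y (x.2 * u)) * S.B u * z := by rw [← S.YB]; group
      _ = (S.Y x.1 * S.Y (x.2 * u)) * S.E x.2 * S.B u * z := by rw [← S.YE]; group
      _ = _ := by rw [← S.Y_add]
  by_cases h : u = 0 ∨ x.2 = 0 ∨ u = x.2
  · refine ⟨1, fun _ => rfl, fun h' => absurd h h', ?_⟩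
    rw [one_smul]
    unfold YE
    rw [← m_mul, ← m_mul, e1 1 (by rw [mul_one]; exact S.BE u x.2 h), mul_one]
  · refine ⟨σ, fun h' => absurd h' h, fun _ => rfl, ?_⟩
    unfold YE
    rw [← m_mul, ← m_mul]
    have h' := h
    rw [not_or, not_or] at h'
    rw [e1 S.κ (S.BE' u x.2 h'.1 h'.2.1 h'.2.2), m_mul, hσ, Matrix.mul_smul, Matrix.mul_one]

theorem L_bij (u : K) : Function.Bijective (fun x : K × K => (x.1 + x.2 * u, x.2)) := by
  apply Finite.injective_iff_bijective.1
  intro x y hxy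
  obtain ⟨h3, h4⟩ := Prod.mk.inj hxy
  refine Prod.ext ?_ h4
  rw [h4] at h3
  exact add_right_cancel h3

theorem e_B1 (hσ : m ρ S.κ = (1 : F) • (1 : Matrix ι ι F)) (a b u : K) :
    m ρ (S.B u) * e ρ S (a, b) = e ρ S (a, b + a * u) * m ρ (S.B u) := by
  refine Wt.conj_E (Y := YE ρ S) (χ := chi K F) (m ρ (S.B u)) (L_bij hK h2 u) (m := fun _ => 1) ?_ ?_
  · intro x
    obtain ⟨τ, h3, h4, h5⟩ := B_YE S hK h2 hσ u x
    rw [h5]
    congr 1
    by_cases h : u = 0 ∨ x.2 = 0 ∨ u = x.2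
    · exact h3 h
    · exact h4 h
  · intro x
    unfold chi
    simp only
    rw [mul_one, mul_add, ps_add F hK S.hom, add_mul, ps_add F hK S.hom]
    have e1 : a * (x.2 * u) = a * u * x.2 := by ring
    rw [e1]
    linear_combination (ps F (a * x.1) * ps F (b * x.2)) * ps_sq F (a * u * x.2)

include S in
theorem ps_uut {u t : K} : ((u = 0 ∨ t = 0 ∨ u = t) → ps F (u * u * t) = 1) ∧
    (¬ (u = 0 ∨ t = 0 ∨ u = t) → ps F (u * u * t) = -1) := by
  have hom := S.hom
  have q1 := om_sq hK hom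
  have q2 := om_mul_om1 hK hom
  have q3 := om1_mul_om hK hom
  have q4 := om1_sq hK hom
  have n1 := om_ne_zero hom
  have n2 := om_ne_one hK hom
  have n3 := om1_ne_zero hK hom
  have n4 := om1_ne_one hK hom
  have n5 := om_ne_om1 hK hom
  constructor
  · rintro (h | h | h)
    · rw [h, zero_mul, zero_mul, ps_zero]
    · rw [h, mul_zero, ps_zero]
    · subst h
      rcases cases_four hK hom u with h | h | h | h <;> rw [h]
      · rw [mul_zero, ps_zero]
      · rw [mul_one, mul_one, ps_one]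
      · rw [q1, q3, ps_one]
      · rw [q4, q2, ps_one]
  · intro h
    rw [not_or, not_or] at h
    obtain ⟨h3, h4, h5⟩ := h
    rcases cases_four hK hom u with h | h | h | h
    · exact absurd h h3
    · rcases cases_four hK hom t with h' | h' | h' | h'
      · exact absurd h' h4
      · exact absurd (h.trans h'.symm) h5
      · rw [h, h', one_mul, one_mul, ps_om F hK hom]
      · rw [h, h', one_mul, one_mul, ps_om1 F hK hom]
    · rcases cases_four hK hom t with h' | h' | h' | h'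
      · exact absurd h' h4
      · rw [h, h', mul_one, q1, ps_om1 F hK hom]
      · exact absurd (h.trans h'.symm) h5
      · rw [h, h', q1, q4, ps_om F hK hom]
    · rcases cases_four hK hom t with h' | h' | h' | h'
      · exact absurd h' h4
      · rw [h, h', mul_one, q4, ps_om F hK hom]
      · rw [h, h', q4, q1, ps_om1 F hK hom]
      · exact absurd (h.trans h'.symm) h5

theorem e_B (hσ : m ρ S.κ = (-1 : F) • (1 : Matrix ι ι F)) (a b u : K) :
    m ρ (S.B u) * e ρ S (a, b) = e ρ S (a, b + a * u + u * u) * m ρ (S.B u) := by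
  refine Wt.conj_E (Y := YE ρ S) (χ := chi K F) (m ρ (S.B u)) (L_bij hK h2 u) (m := fun x => ps F (u * u * x.2)) ?_ ?_
  · intro x
    obtain ⟨τ, h3, h4, h5⟩ := B_YE S hK h2 hσ u x
    rw [h5]
    congr 1
    by_cases h : u = 0 ∨ x.2 = 0 ∨ u = x.2
    · rw [h3 h, (ps_uut S hK h2).1 h]
    · rw [h4 h, (ps_uut S hK h2).2 h]
  · intro x
    unfold chi
    simp only
    rw [mul_add, ps_add F hK S.hom, add_mul, ps_add F hK S.hom, add_mul, ps_add F hK S.hom]
    have e1 : a * (x.2 * u) = a * u * x.2 := by ring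
    rw [e1]
    linear_combination (ps F (a * x.1) * ps F (b * x.2) * ps F (u * u * x.2)) * ps_sq F (a * u * x.2)

/-- the ranks are even -/
theorem rank_even {a b : K} (ha : a ≠ 0) : Even (e ρ S (a, b)).rank := by
  refine Wt.even_rank h2 (e_idem S hK h2 _) (x := ρ (S.C 1)) (y := ρ (S.D (a⁻¹ * S.om))) (e_C S hK h2 1 _)
    (e_D S hK h2 _ _) ?_
  have h3 : m ρ (S.C 1) * m ρ (S.D (a⁻¹ * S.om)) * e ρ S (a, b) =
      m ρ (S.D (a⁻¹ * S.om)) * m ρ (S.C 1) * (m ρ (S.Y (1 * (a⁻¹ * S.om))) * e ρ S (a, b)) := by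
    rw [← m_mul, S.CD, m_mul, m_mul, Matrix.mul_assoc]
  rw [h3, Y_e S hK h2, one_mul]
  simp only
  rw [← mul_assoc, mul_inv_cancel₀ ha, one_mul, ps_om F hK S.hom, Matrix.mul_smul, neg_smul, one_smul]

end basic

end Cfsg.Agent.H814.G24
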