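import Mathlib

/-!
# Lifts of root groups in central extensions (helper814)
-/

set_option autoImplicit false

namespace Cfsg.Agent.H814.Lift

open Subgroup
open scoped commutatorElement

variable {P T : Type*} [Group P] [Group T] {π : P →* T}

theorem central (hc : π.ker ≤ center P) {k : P} (hk : π k = 1) (g : P) : g * k = k * g :=
  mem_center_iff.1 (hc ((MonoidHom.mem_ker).2 hk)) g

/-- commutators only depend on the images -/
theorem comm_congr (hc : π.ker ≤ center P) {a a' b b' : P} (ha : π a = π a') (hb : π b = π b') : ⁅a, b⁆ = ⁅a', b'⁆ := by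
  obtain ⟨k, rfl⟩ : ∃ k, a' = a * k := ⟨a⁻¹ * a', by group⟩
  obtain ⟨l, rfl⟩ : ∃ l, b' = b * l := ⟨b⁻¹ * b', by group⟩
  have hk : π k = 1 := by rw [map_mul] at ha; exact (left_eq_mul.1 ha)
  have hl : π l = 1 := by rw [map_mul] at hb; exact (left_eq_mul.1 hb)
  have h1 := central hc hk
  have h2 := central hc hl
  rw [commutatorElement_def, commutatorElement_def, mul_inv_rev, mul_inv_rev]
  calc a * b * a⁻¹ * b⁻¹ = a * b * (l * l⁻¹) * (k * k⁻¹) * a⁻¹ * b⁻¹ := by group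
    _ = a * (b * l) * (l⁻¹ * k) * k⁻¹ * a⁻¹ * b⁻¹ := by group
    _ = a * (b * l) * (k * l⁻¹) * k⁻¹ * a⁻¹ * b⁻¹ := by rw [h1]
    _ = a * ((b * l) * k) * (l⁻¹ * k⁻¹ * a⁻¹) * b⁻¹ := by group
    _ = a * (k * (b * l)) * (l⁻¹ * k⁻¹ * a⁻¹) * b⁻¹ := by rw [h1]
    _ = a * k * (b * l) * (l⁻¹ * (k⁻¹ * a⁻¹)) * b⁻¹ := by group
    _ = a * k * (b * l) * ((k⁻¹ * a⁻¹) * l⁻¹) * b⁻¹ := by
        have : ∀ g, l⁻¹ * g = g * l⁻¹ := fun g => (((show Commute g l from h2 g).inv_right).eq).symm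
        rw [this]
    _ = a * k * (b * l) * (k⁻¹ * a⁻¹) * (l⁻¹ * b⁻¹) := by group

/-- conjugation only depends on the image -/
theorem conj_congr (hc : π.ker ≤ center P) {a a' : P} (ha : π a = π a') (g : P) : a * g * a⁻¹ = a' * g * a'⁻¹ := by
  have h1 := comm_congr hc ha (rfl : π g = π g)
  rw [commutatorElement_def, commutatorElement_def] at h1
  exact mul_right_cancel h1

/-- bimultiplicativity of commutators with central values -/
theorem comm_mul_right {a b c : P} (h : ∀ g, g * ⁅a, c⁆ = ⁅a, c⁆ * g) : ⁅a, b * c⁆ = ⁅a, b⁆ * ⁅a, c⁆ := by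
  have h1 := h b⁻¹
  calc ⁅a, b * c⁆ = ⁅a, b⁆ * (b * ⁅a, c⁆ * b⁻¹) := by simp only [commutatorElement_def]; group
    _ = _ := by rw [h b, mul_inv_cancel_right]

theorem comm_mul_left {a b c : P} (h : ∀ g, g * ⁅b, c⁆ = ⁅b, c⁆ * g) : ⁅a * b, c⁆ = ⁅b, c⁆ * ⁅a, c⁆ := by
  calc ⁅a * b, c⁆ = (a * ⁅b, c⁆ * a⁻¹) * ⁅a, c⁆ := by simp only [commutatorElement_def]; group
    _ = _ := by rw [h a, mul_inv_cancel_right]

section field

variable {K : Type*} [Field K]

/-- canonical lifts of a root group -/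
theorem exists_hom (hπ : Function.Surjective π) (hc : π.ker ≤ center P) {X : K → T}
    (hX : ∀ s t, X (s + t) = X s * X t) (hcomm : ∀ (s t : K) (p q : P), π p = X s → π q = X t → p * q = q * p)
    {h : P} {lam : K} (hlam : lam ≠ 1) (hh : ∀ t, π h * X t * (π h)⁻¹ = X (lam * t)) :
    ∃ Y : K → P, (∀ t, π (Y t) = X t) ∧ (∀ s t, Y (s + t) = Y s * Y t) ∧ ∀ t, h * Y t * h⁻¹ = Y (lam * t) := by
  have hμ : (1 - lam) ≠ 0 := fun h0 => hlam (by linear_combination -h0)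
  set μ := (1 - lam)⁻¹ with hμd
  choose l hl using hπ
  have hX0 : X 0 = 1 := by
    have := hX 0 0
    rw [add_zero] at this
    exact (left_eq_mul.1 this)
  have hXn : ∀ t, X (-t) = (X t)⁻¹ := by
    intro t
    rw [eq_inv_iff_mul_eq_one, ← hX, neg_add_cancel, hX0]
  have e1 : ∀ t, π ⁅l (X (μ * t)), h⁆ = X t := by
    intro t
    rw [map_commutatorElement, hl, commutatorElement_def]
    have h1 : X (μ * t) * π h * (X (μ * t))⁻¹ * (π h)⁻¹ = X (μ * t) * (π h * X (μ * t) * (π h)⁻¹)⁻¹ := by group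
    rw [h1, hh, ← hXn, ← hX]
    congr 1
    have : (1 - lam) * μ = 1 := mul_inv_cancel₀ hμ
    linear_combination t * this
  refine ⟨fun t => ⁅l (X (μ * t)), h⁆, e1, ?_, ?_⟩
  · intro s t
    have h1 : ⁅l (X (μ * (s + t))), h⁆ = ⁅l (X (μ * s)) * l (X (μ * t)), h⁆ := by
      apply comm_congr hc _ rfl
      rw [map_mul, hl, hl, hl, mul_add, hX]
    have h2 : l (X (μ * s)) * ⁅l (X (μ * t)), h⁆ = ⁅l (X (μ * t)), h⁆ * l (X (μ * s)) :=
      hcomm _ _ _ _ (hl _) (e1 t)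
    have h3 : ⁅l (X (μ * s)), h⁆ * ⁅l (X (μ * t)), h⁆ = ⁅l (X (μ * t)), h⁆ * ⁅l (X (μ * s)), h⁆ :=
      hcomm _ _ _ _ (e1 s) (e1 t)
    show ⁅l (X (μ * (s + t))), h⁆ = ⁅l (X (μ * s)), h⁆ * ⁅l (X (μ * t)), h⁆
    rw [h1, h3]
    calc ⁅l (X (μ * s)) * l (X (μ * t)), h⁆
        = (l (X (μ * s)) * ⁅l (X (μ * t)), h⁆ * (l (X (μ * s)))⁻¹) * ⁅l (X (μ * s)), h⁆ := by
          simp only [commutatorElement_def]; group
      _ = _ := by rw [h2, mul_inv_cancel_right]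
  · intro t
    have h1 : h * ⁅l (X (μ * t)), h⁆ * h⁻¹ = ⁅h * l (X (μ * t)) * h⁻¹, h⁆ := by
      simp only [commutatorElement_def]; group
    show h * ⁅l (X (μ * t)), h⁆ * h⁻¹ = _
    rw [h1]
    apply comm_congr hc _ rfl
    rw [map_mul, map_mul, map_inv, hl, hl, hh]
    congr 1
    ring

/-- uniqueness of equivariant lifts -/
theorem uniq (hc : π.ker ≤ center P) {Y Z : K → P} (hYZ : ∀ t, π (Y t) = π (Z t))
    (hY : ∀ s t, Y (s + t) = Y s * Y t) (hZ : ∀ s t, Z (s + t) = Z s * Z t) {h h' : P} (hh : π h = π h') {lam : K}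
    (hlam : lam ≠ 1) (hYh : ∀ t, h * Y t * h⁻¹ = Y (lam * t)) (hZh : ∀ t, h' * Z t * h'⁻¹ = Z (lam * t)) (t : K) :
    Y t = Z t := by
  have hZh' : ∀ t, h * Z t * h⁻¹ = Z (lam * t) := fun t => by rw [conj_congr hc hh, hZh]
  set κ : K → P := fun t => Z t * (Y t)⁻¹ with hκ
  have k1 : ∀ t, π (κ t) = 1 := fun t => by rw [hκ]; simp only; rw [map_mul, map_inv, hYZ, mul_inv_cancel]
  have k2 : ∀ s t, κ (s + t) = κ s * κ t := by
    intro s t
    have h1 : κ (s + t) = Z s * κ t * (Y s)⁻¹ := by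
      simp only [hκ]
      rw [hZ, hY, mul_inv_rev]
      group
    rw [h1, central hc (k1 t), mul_assoc, ← central hc (k1 t)]
  have k3 : ∀ t, κ (lam * t) = κ t := by
    intro t
    have h1 : κ (lam * t) = h * κ t * h⁻¹ := by
      simp only [hκ]
      rw [← hYh, ← hZh']
      group
    rw [h1, central hc (k1 t), mul_inv_cancel_right]
  have k4 : ∀ t, κ t = 1 := by
    intro t
    have h1 : (1 - lam) ≠ 0 := fun h0 => hlam (by linear_combination -h0)
    have h2 := k2 ((1 - lam) * ((1 - lam)⁻¹ * t)) (lam * ((1 - lam)⁻¹ * t))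
    rw [k3, ← add_mul, sub_add_cancel, one_mul] at h2
    have h3 : (1 - lam) * ((1 - lam)⁻¹ * t) = t := by rw [← mul_assoc, mul_inv_cancel₀ h1, one_mul]
    rw [h3] at h2
    exact right_eq_mul.1 h2
  have h5 := k4 t
  simp only [hκ] at h5
  exact (mul_inv_eq_one.1 h5).symm

/-- conjugation of equivariant lifts -/
theorem conj_lift (hc : π.ker ≤ center P) {Y Z : K → P} {g : P} {ν : K} (hYZ : ∀ t, π (g * Y t * g⁻¹) = π (Z (ν * t)))
    (hY : ∀ s t, Y (s + t) = Y s * Y t) (hZ : ∀ s t, Z (s + t) = Z s * Z t) {h h' : P} {lam : K} (hlam : lam ≠ 1)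
    (hYh : ∀ t, h * Y t * h⁻¹ = Y (lam * t)) (hZh : ∀ t, h' * Z t * h'⁻¹ = Z (lam * t))
    (hh : π g * π h * (π g)⁻¹ = π h') (t : K) : g * Y t * g⁻¹ = Z (ν * t) := by
  refine uniq (π := π) hc (Y := fun t => g * Y t * g⁻¹) (Z := fun t => Z (ν * t)) hYZ ?_ ?_ (h := g * h * g⁻¹)
    (h' := h') (by rw [map_mul, map_mul, map_inv, hh]) hlam ?_ ?_ t
  · intro s t
    rw [hY]
    group
  · intro s t
    rw [mul_add, hZ]
  · intro t
    rw [← hYh]
    group
  · intro t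
    rw [hZh]
    congr 1
    ring

end field

end Cfsg.Agent.H814.Lift
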