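import Cfsg.Agent.H443.PC.Defs

/-!
# S3876, row_char, P3a (1): a symmetric group of degree three in a node of exponent two
-/

set_option autoImplicit false
set_option linter.unusedSectionVars false

namespace Cfsg.Agent.H814.NtriExp

open Cfsg CoxeterSystem Cfsg.Agent.ChevalleyStructure.CoxeterGeom Cfsg.Agent.Tits.Roots Cfsg.Agent.Tits.Core
  Cfsg.Agent.Tits.RootComb Cfsg.Agent.Nodes.Comb Cfsg.Agent.Nodes.Reps Cfsg.Agent.Nodes.BNOf
open Cfsg.Agent.H443.PC

variable {I W Y : Type*} [Fintype I] [DecidableEq I] [Group W] [Group Y] {M : CoxeterMatrix I}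
  {cs : CoxeterSystem M W} {A : I → I → ℤ} {h : IsCartan M A} {T : Subgroup Y} {n : I → Y}
  {X : (I → ℤ) → Subgroup Y} {p : ℕ}

/-- A nontrivial element of the negative root group is not in `B`. -/
theorem neg_inf_B [Finite W] (R : RGD cs h p T n X) {i : I} {u : Y} (hu : u ∈ X (-sr i)) (hB : u ∈ RGD.B cs h T X) :
    u = 1 := by
  by_contra h1
  obtain ⟨a, ha, t, ht, b, hb, e⟩ := R.rk1 i u hu h1
  have hX : X (sr i) ≤ RGD.B cs h T X := RGD.X_le_B (isRoot_sr cs h i) (sr_nonneg i)
  have hn : n i ∈ RGD.B cs h T X := by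
    have : n i = (a * t)⁻¹ * u * b⁻¹ := by rw [e]; group
    rw [this]
    exact mul_mem (mul_mem (inv_mem (mul_mem (hX ha) (RGD.T_le_B ht))) hB) (inv_mem (hX hb))
  have h2 := R.eq_one_of_mem_B (rp_simple cs R.nsys i) hn
  have h3 := cs.length_simple i
  rw [h2, cs.length_one] at h3
  omega

theorem conj_up (R : RGD cs h p T n X) {i : I} {m : Y} (hm : Rp cs R.nsys (cs.simple i) m) {a : Y} (ha : a ∈ X (sr i)) :
    m * a * m⁻¹ ∈ X (-sr i) := by
  have := R.conj_mem hm (isRoot_sr cs h i) ha
  rwa [rep_simple_sr] at this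

theorem conj_dn (R : RGD cs h p T n X) {i : I} {m : Y} (hm : Rp cs R.nsys (cs.simple i) m) {a : Y} (ha : a ∈ X (-sr i)) :
    m * a * m⁻¹ ∈ X (sr i) := by
  have := R.conj_mem hm (isRoot_sr cs h i).neg ha
  rwa [map_neg, rep_simple_sr, neg_neg] at this

theorem key [Finite W] (R : RGD cs h p T n X) {i : I} (h2 : ∀ x ∈ X (sr i), x * x = 1) {u : Y}
    (hu : u ∈ X (-sr i)) (hu2 : u * u = 1) (h1 : u ≠ 1) :
    ∃ a ∈ X (sr i), ∃ m, Rp cs R.nsys (cs.simple i) m ∧ m * m = 1 ∧ u = a * m * a := by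
  obtain ⟨a, ha, t, ht, b, hb, e⟩ := R.rk1 i u hu h1
  have hm : Rp cs R.nsys (cs.simple i) (t * n i) := by
    have := (rp_of_mem (cs := cs) (hN := R.nsys) ht).mul (rp_simple cs R.nsys i)
    rwa [one_mul] at this
  have hmm : (t * n i) * (t * n i) ∈ T := by
    have := hm.mul hm
    rw [cs.simple_mul_simple_self] at this
    exact this.mem_of_one
  set m := t * n i with hmd
  have e' : u = a * m * b := by rw [e, hmd]; group
  have hba : b * a ∈ X (sr i) := mul_mem hb ha
  -- `m c m = c⁻¹`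
  have h3 : m * (b * a) * m = (b * a)⁻¹ := by
    have : a * (m * (b * a) * m) * b = 1 := by
      have h4 := hu2
      rw [e'] at h4
      calc a * (m * (b * a) * m) * b = a * m * b * (a * m * b) := by group
        _ = 1 := h4
    calc m * (b * a) * m = a⁻¹ * (a * (m * (b * a) * m) * b) * b⁻¹ := by group
      _ = (b * a)⁻¹ := by rw [this]; group
  have hX : X (sr i) ≤ RGD.B cs h T X := RGD.X_le_B (isRoot_sr cs h i) (sr_nonneg i)
  have h5 : m * (b * a) * m⁻¹ = (b * a)⁻¹ * (m * m)⁻¹ := by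
    rw [← h3]; group
  have h6 : m * (b * a) * m⁻¹ = 1 := by
    apply neg_inf_B R (conj_up R hm hba)
    rw [h5]
    exact mul_mem (inv_mem (hX hba)) (RGD.T_le_B (inv_mem hmm))
  have h7 : b * a = 1 := by
    have : b * a = m⁻¹ * (m * (b * a) * m⁻¹) * m := by group
    rw [this, h6]; group
  have h8 : b = a := by
    rw [eq_inv_of_mul_eq_one_left h7]
    exact inv_eq_of_mul_eq_one_left (h2 a ha)
  refine ⟨a, ha, m, hm, ?_, by rw [e', h8]⟩
  rw [h7, mul_one, inv_one] at h3
  exact h3

/-- A node of exponent two contains a symmetric group of degree three generated by two root elements. -/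
theorem ntri_of_exp [Finite W] (R : RGD cs h 2 T n X) {i : I} (h2 : ∀ x ∈ X (sr i), x * x = 1) : NTri X i := by
  have hn := rp_simple cs R.nsys i
  have h2' : ∀ x ∈ X (-sr i), x * x = 1 := by
    intro x hx
    have h3 := h2 _ (conj_dn R hn hx)
    have h4 : n i * (x * x) * (n i)⁻¹ = 1 := by rw [← h3]; group
    have h5 : x * x = (n i)⁻¹ * (n i * (x * x) * (n i)⁻¹) * n i := by group
    rw [h5, h4]; group
  have comm' : ∀ {Z : Subgroup Y}, (∀ x ∈ Z, x * x = 1) → ∀ x ∈ Z, ∀ y ∈ Z, x * y = y * x := by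
    intro Z hZ x hx y hy
    have h3 := hZ _ (mul_mem hx hy)
    have hx2 := hZ x hx
    have hy2 := hZ y hy
    calc x * y = x * (x * y * (x * y)) * y := by rw [h3, mul_one]
      _ = (x * x) * y * x * (y * y) := by group
      _ = y * x := by rw [hx2, hy2]; group
  obtain ⟨u, hu, hu1⟩ : ∃ u ∈ X (-sr i), u ≠ 1 := by
    by_contra hcon
    push Not at hcon
    apply R.not_neg_le_B i
    intro x hx
    rw [hcon x hx]
    exact one_mem _
  obtain ⟨a, ha, m, hm, hmm, e⟩ := key R h2 hu (h2' u hu) hu1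
  have ha2 := h2 a ha
  have hu2 := h2' u hu
  have hminv : m⁻¹ = m := inv_eq_of_mul_eq_one_left hmm
  have hX : X (sr i) ≤ RGD.B cs h T X := RGD.X_le_B (isRoot_sr cs h i) (sr_nonneg i)
  have em : m = a * u * a := by
    rw [e]
    calc m = (a * a) * m * (a * a) := by rw [ha2]; group
      _ = a * (a * m * a) * a := by group
  -- `a ≠ 1`
  have ha1 : a ≠ 1 := by
    rintro rfl
    rw [one_mul, mul_one] at e
    subst e
    apply R.not_neg_le_B i
    intro x hx
    have h3 := conj_dn R hm hx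
    have h4 : u * x * u⁻¹ ∈ X (-sr i) := mul_mem (mul_mem hu hx) (inv_mem hu)
    have h5 := neg_inf_B R h4 (hX h3)
    have h6 : x = u⁻¹ * (u * x * u⁻¹) * u := by group
    rw [h6, h5, mul_one, inv_mul_cancel]
    exact one_mem _
  -- `u' = m a m`
  obtain ⟨v, hv, ev⟩ : ∃ v ∈ X (-sr i), v = m * a * m := ⟨m * a * m⁻¹, conj_up R hm ha, by rw [hminv]⟩
  have hv2 := h2' v hv
  -- `m = v a u`
  have e1 : m = v * a * u := by
    have h3 : a * v * m = u := by
      rw [ev, e]
      calc a * (m * a * m) * m = a * m * a * (m * m) := by group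
        _ = a * m * a := by rw [hmm, mul_one]
    calc m = (v * (a * a) * v) * m := by rw [ha2, mul_one, hv2, one_mul]
      _ = v * a * (a * v * m) := by group
      _ = v * a * u := by rw [h3]
  have e2 : m = u * a * v := by
    calc m = m⁻¹ := hminv.symm
      _ = u⁻¹ * a⁻¹ * v⁻¹ := by rw [e1]; group
      _ = u * a * v := by
        rw [inv_eq_of_mul_eq_one_left hu2, inv_eq_of_mul_eq_one_left ha2, inv_eq_of_mul_eq_one_left hv2]
  -- `d = u v`
  have e3 : (u * v) * a = a * (u * v) := by
    have h3 : u * (v * a * u) * v = u * (u * a * v) * v := by rw [← e1, ← e2]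
    have h4 : u * (u * a * v) * v = a := by
      calc u * (u * a * v) * v = (u * u) * a * (v * v) := by group
        _ = a := by rw [hu2, hv2]; group
    have h5 : (u * v) * a * (u * v) = a := by
      calc (u * v) * a * (u * v) = u * (v * a * u) * v := by group
        _ = u * (u * a * v) * v := h3
        _ = a := h4
    have h6 : (u * v) * (u * v) = 1 := h2' _ (mul_mem hu hv)
    calc (u * v) * a = (u * v) * a * ((u * v) * (u * v)) := by rw [h6, mul_one]
      _ = ((u * v) * a * (u * v)) * (u * v) := by group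
      _ = a * (u * v) := by rw [h5]
  have hd : u * v = 1 := by
    by_contra hd1
    have hdX : u * v ∈ X (-sr i) := mul_mem hu hv
    obtain ⟨a1, ha1', m1, hm1, hmm1, ed⟩ := key R h2 hdX (h2' _ hdX) hd1
    have h12 := h2 a1 ha1'
    have hc := comm' h2 a ha a1 ha1'
    rw [ed] at e3
    -- `a1 m1 a1 a = a a1 m1 a1`
    have h3 : m1 * a = a * m1 := by
      have h4 : a1 * (m1 * a) * a1 = a1 * (a * m1) * a1 := by
        calc a1 * (m1 * a) * a1 = a1 * m1 * (a * a1) := by group
          _ = a1 * m1 * (a1 * a) := by rw [hc]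
          _ = a1 * m1 * a1 * a := by group
          _ = a * (a1 * m1 * a1) := e3
          _ = (a * a1) * m1 * a1 := by group
          _ = (a1 * a) * m1 * a1 := by rw [hc]
          _ = a1 * (a * m1) * a1 := by group
      exact mul_left_cancel (mul_right_cancel h4)
    have h5 : m1 * a * m1⁻¹ = a := by rw [h3]; group
    have h6 := conj_up R hm1 ha
    rw [h5] at h6
    exact ha1 (neg_inf_B R h6 (hX ha))
  have hvu : v = u := by
    calc v = (u * u) * v := by rw [hu2, one_mul]
      _ = u * (u * v) := by group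
      _ = u := by rw [hd, mul_one]
  rw [hvu] at e1
  refine ⟨a, ha, u, hu, ha1, hu1, ha2, hu2, ?_⟩
  calc a * u * a * u * a * u = (a * u * a) * (u * a * u) := by group
    _ = m * m := by rw [← em, ← e1]
    _ = 1 := hmm

end Cfsg.Agent.H814.NtriExp
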