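import Cfsg.Agent.H814.Wt
import Cfsg.Agent.H814.Lift

/-!
# Representations of a central extension whose kernel acts by signs (helper814)
-/

set_option autoImplicit false
set_option linter.unusedSectionVars false

namespace Cfsg.Agent.H814

open Subgroup Matrix
open scoped commutatorElement

/-- `φ : P → G` onto, `ρ` faithful, the kernel of `φ` acts by the scalars `± 1`. -/
structure PRep {P G : Type*} [Group P] [Group G] {ι : Type*} [Fintype ι] [DecidableEq ι] {F : Type*} [Field F]
    (φ : P →* G) (ρ : P →* GL ι F) : Prop where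
  surj : Function.Surjective φ
  inj : Function.Injective ρ
  ker : ∀ k, φ k = 1 → ∃ s : F, s * s = 1 ∧ ((ρ k : GL ι F) : Matrix ι ι F) = s • (1 : Matrix ι ι F)
  ne : Nonempty ι

namespace PRep

variable {P G : Type*} [Group P] [Group G] {ι : Type*} [Fintype ι] [DecidableEq ι] {F : Type*} [Field F]
  {φ : P →* G} {ρ : P →* GL ι F} (R : PRep φ ρ)
include R

/-- the matrix of an element -/
theorem ker_le : φ.ker ≤ center P := by
  intro k hk
  obtain ⟨s, -, hs⟩ := R.ker k hk
  rw [mem_center_iff]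
  intro g
  apply R.inj
  apply Units.ext
  rw [map_mul, map_mul, Units.val_mul, Units.val_mul, hs, Matrix.mul_smul, Matrix.smul_mul, Matrix.mul_one, Matrix.one_mul]

theorem smul_inj {s t : F} (h : s • (1 : Matrix ι ι F) = t • (1 : Matrix ι ι F)) : s = t := by
  obtain ⟨i⟩ := R.ne
  have := congrFun (congrFun h i) i
  simpa using this

theorem exists_sign {A : Type*} [AddZeroClass A] {f : A → P} (h1 : ∀ a, φ (f a) = 1) (h2 : ∀ a b, f (a + b) = f a * f b) :
    ∃ s : A → F, s 0 = 1 ∧ (∀ a b, s (a + b) = s a * s b) ∧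
      ∀ a, ((ρ (f a) : GL ι F) : Matrix ι ι F) = s a • (1 : Matrix ι ι F) := by
  choose s hs1 hs2 using fun a => R.ker (f a) (h1 a)
  refine ⟨s, ?_, ?_, hs2⟩
  · have h0 : f 0 = 1 := by
      have := h2 0 0
      rw [add_zero] at this
      exact left_eq_mul.1 this
    apply R.smul_inj
    rw [← hs2, h0, map_one, Units.val_one, one_smul]
  · intro a b
    apply R.smul_inj
    rw [← hs2, h2, map_mul, Units.val_mul, hs2, hs2, Matrix.smul_mul, Matrix.one_mul, smul_smul]

theorem comm_of {a b : P} (h : φ a * φ b = φ b * φ a) : φ ⁅a, b⁆ = 1 := by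
  rw [map_commutatorElement, commutatorElement_eq_one_iff_mul_comm]
  exact h

/-- commutators of commuting images are central -/
theorem comm_central {a b : P} (h : φ a * φ b = φ b * φ a) (g : P) : g * ⁅a, b⁆ = ⁅a, b⁆ * g :=
  Lift.central R.ker_le (R.comm_of h) g

end PRep

/-! ### characters of fields of characteristic two -/

section psi

variable {K : Type*} [Field K] [Fintype K] (hK : CharP K 2) {F : Type*} [Field F]

include hK in
theorem exists_psi (h2 : (2 : F) ≠ 0) : ∃ ψ : K → F, (∀ a b, ψ (a + b) = ψ a * ψ b) ∧ (∀ a, ψ a = 1 ∨ ψ a = -1) ∧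
    (∃ a, ψ a = -1) ∧ Wt.Pair fun c a => ψ (c * a) := by
  classical
  let _ : Algebra (ZMod 2) K := ZMod.algebra K 2
  let t : K → ZMod 2 := fun a => Algebra.trace (ZMod 2) K a
  have ht : ∀ a b, t (a + b) = t a + t b := fun a b => map_add _ a b
  obtain ⟨a1, ha1⟩ := Algebra.trace_surjective (ZMod 2) K 1
  have hz : ∀ x y : ZMod 2, ((-1 : F)) ^ (x + y).val = (-1) ^ x.val * (-1) ^ y.val := by
    intro x y
    have h3 : ∀ x y : ZMod 2, (x + y).val % 2 = (x.val + y.val) % 2 := by decide
    rw [← pow_add, neg_one_pow_eq_pow_mod_two, h3, ← neg_one_pow_eq_pow_mod_two]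
  have h1 : ∀ a b, (-1 : F) ^ (t (a + b)).val = (-1) ^ (t a).val * (-1) ^ (t b).val := fun a b => by rw [ht, hz]
  have hpm : ∀ a, (-1 : F) ^ (t a).val = 1 ∨ (-1 : F) ^ (t a).val = -1 := fun a => neg_one_pow_eq_or F _
  have hm1 : (-1 : F) ^ (t a1).val = -1 := by
    have : t a1 = 1 := ha1
    rw [this, show (1 : ZMod 2).val = 1 from rfl, pow_one]
  have two : ∀ a : K, a + a = 0 := fun a => CharTwo.add_self_eq_zero a
  have hsum : ∀ c : K, c ≠ 0 → ∑ a, (-1 : F) ^ (t (c * a)).val = 0 := by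
    intro c hc
    have h3 : ∑ a, (-1 : F) ^ (t (c * a)).val = -∑ a, (-1 : F) ^ (t (c * a)).val := by
      conv_lhs => rw [← Equiv.sum_comp (Equiv.addRight (c⁻¹ * a1))]
      rw [← Finset.sum_neg_distrib]
      apply Finset.sum_congr rfl
      intro a _
      rw [Equiv.coe_addRight, mul_add, ← mul_assoc c, mul_inv_cancel₀ hc, one_mul, h1, hm1]
      ring
    have h4 : (2 : F) * ∑ a, (-1 : F) ^ (t (c * a)).val = 0 := by linear_combination h3
    exact (mul_eq_zero.1 h4).resolve_left h2
  refine ⟨fun a => (-1) ^ (t a).val, h1, hpm, ⟨a1, hm1⟩, ?_⟩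
  refine ⟨fun c c' a => ?_, fun c a a' => ?_, fun c a => ?_, fun a ha => ?_, hsum, ?_, two⟩
  · simp only
    rw [add_mul, h1]
  · simp only
    rw [mul_add, h1]
  · simp only
    rw [← h1, two]
    have : t 0 = 0 := map_zero _
    rw [this, ZMod.val_zero, pow_zero]
  · simp only [mul_comm _ a]
    exact hsum a ha
  · obtain ⟨n, -, hn⟩ := FiniteField.card K 2
    rw [hn]
    push_cast
    exact pow_ne_zero _ h2

end psi

/-! ### the field with eight elements -/

section eight

variable {K : Type*} [Field K] [Fintype K] (hK : Fintype.card K = 8)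

include hK in
theorem charP_of_eight : CharP K 2 := by
  obtain ⟨p, hp⟩ := CharP.exists K
  obtain ⟨n, hpp, hn⟩ := FiniteField.card K p
  have h2 : p ∣ 2 ^ 3 := by
    rw [show (2 : ℕ) ^ 3 = 8 by norm_num, ← hK, hn]
    exact dvd_pow_self p n.ne_zero
  have h3 : p = 2 := (Nat.prime_dvd_prime_iff_eq hpp Nat.prime_two).1 (hpp.dvd_of_dvd_pow h2)
  rwa [h3] at hp

include hK in
theorem eight_trivial {M : Type*} [Group M] {f : K → M} (hadd : ∀ x y, f (x + y) = f x * f y)
    (hinv : ∀ x, x ≠ 0 → f x⁻¹ = f x) (h1 : f 1 = 1) (x : K) : f x = 1 := by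
  have hch := charP_of_eight hK
  have two : ∀ a : K, a + a = 0 := fun a => CharTwo.add_self_eq_zero a
  have htwo : (2 : K) = 0 := CharTwo.two_eq_zero
  have f0 : f 0 = 1 := by
    have := hadd 0 0
    rw [add_zero] at this
    exact left_eq_mul.1 this
  have fsq : ∀ x, f x * f x = 1 := fun x => by rw [← hadd, two, f0]
  have key : ∀ x : K, x ^ 3 = x + 1 → f x = 1 := by
    intro x hx
    have k1 : ∀ y : K, y ^ 3 = y + 1 → f y = f (y ^ 2) := by
      intro y hy
      have hy0 : y ≠ 0 := by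
        rintro rfl
        rw [zero_pow three_ne_zero, zero_add] at hy
        exact zero_ne_one hy
      have h3 : y⁻¹ = y ^ 2 + 1 := by
        apply inv_eq_of_mul_eq_one_right
        linear_combination hy + y * htwo
      rw [← hinv y hy0, h3, hadd, h1, mul_one]
    have hx2 : (x ^ 2) ^ 3 = x ^ 2 + 1 := by
      have : (x ^ 2) ^ 3 = (x ^ 3) ^ 2 := by ring
      rw [this, hx]
      linear_combination x * htwo
    have e1 := k1 x hx
    have e2 := k1 (x ^ 2) hx2
    have e3 : (x ^ 2) ^ 2 = x ^ 2 + x := by linear_combination x * hx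
    rw [e3, hadd, ← e1, fsq] at e2
    exact e2
  by_cases hx0 : x = 0
  · rw [hx0, f0]
  by_cases hx1 : x = 1
  · rw [hx1, h1]
  have h7 : x ^ 7 = 1 := by
    have := FiniteField.pow_card_sub_one_eq_one x hx0
    rwa [hK] at this
  have h8 : (x - 1) * ((x ^ 3 - (x + 1)) * (x ^ 3 + x ^ 2 + 1)) = 0 := by
    linear_combination h7 - (x ^ 4 + x ^ 5 - x ^ 3 - x) * htwo + (1 - x - x ^ 3 + x ^ 4) * htwo
  rcases mul_eq_zero.1 h8 with h | h
  · exact absurd (sub_eq_zero.1 h) hx1
  rcases mul_eq_zero.1 h with h | h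
  · exact key x (sub_eq_zero.1 h)
  · have h3 : (x⁻¹) ^ 3 = x⁻¹ + 1 := by
      have h5 : x * x⁻¹ = 1 := mul_inv_cancel₀ hx0
      field_simp
      linear_combination -h + htwo
    rw [← inv_inv x, hinv _ (inv_ne_zero hx0)]
    exact key _ h3

end eight

end Cfsg.Agent.H814
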