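import Cfsg.Agent.H814.PRep
import Cfsg.Agent.H147.SzReal

/-!
# Projective representations of `Sz(8)` of degree at most 12 in odd characteristic (helper814)
-/

set_option autoImplicit false
set_option linter.unusedSectionVars false

namespace Cfsg.Agent.H814.Sz8

open Subgroup Matrix Cfsg.Agent.H814.Wt Cfsg.Agent.LieRecognition.SzMatrix
open scoped commutatorElement

variable {K : Type*} [Field K] [Fintype K] {θ : K →+* K} {e : ℕ} (H : Good K θ e)
variable {P : Type*} [Group P] {ι : Type*} [Fintype ι] [DecidableEq ι] {F : Type*} [Field F]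
variable {φ : P →* ↥(Cfsg.Lie.Sz K e)} {ρ : P →* GL ι F}

/-- the weight structure on a Sylow 2-subgroup -/
structure Data (H : Good K θ e) (φ : P →* ↥(Cfsg.Lie.Sz K e)) (ρ : P →* GL ι F) (ψ : K → F) (Y : K → P) (m : K → K) :
    Prop where
  pm : ∀ a, ψ a = 1 ∨ ψ a = -1
  neg : ∃ a, ψ a = -1
  pair : Pair fun c a => ψ (c * a)
  lift : ∀ b, φ (Y b) = H.u 0 b
  add : ∀ a b, Y (a + b) = Y a * Y b
  act : ∀ a b b' g, φ g = H.u a b' → ((ρ g : GL ι F) : Matrix ι ι F) * ((ρ (Y b) : GL ι F) : Matrix ι ι F) =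
    ψ (m a * b) • (((ρ (Y b) : GL ι F) : Matrix ι ι F) * ((ρ g : GL ι F) : Matrix ι ι F))
  one : m 1 ≠ 0
  onto : ∀ z, ∃ a, m a = z
  rank : ∀ c, (E (fun c a => ψ (c * a)) (fun b => ((ρ (Y b) : GL ι F) : Matrix ι ι F)) c).rank = 1
  card : Fintype.card ι = 8

theorem sq_eq_one {R : PRep φ ρ} {s : F} (h : s * s = 1) : s = 1 ∨ s = -1 := mul_self_eq_one_iff.1 h

include H in
/-- lifts of the centre of the Sylow 2-subgroup commute -/
theorem lifts_comm (R : PRep φ ρ) (hK : Fintype.card K = 8) {p q : P} {s t : K} (hp : φ p = H.u 0 s) (hq : φ q = H.u 0 t) :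
    p * q = q * p := by
  have hch := charP_of_eight hK
  have two : ∀ a : K, a + a = 0 := fun a => CharTwo.add_self_eq_zero a
  choose l hl using R.surj
  have hcU : ∀ x y : K, H.u 0 x * H.u 0 y = H.u 0 y * H.u 0 x := by
    intro x y
    rw [H.u_mul, H.u_mul, zero_mul, add_comm x y]
  have hX : ∀ x y : K, H.u 0 (x + y) = H.u 0 x * H.u 0 y := by
    intro x y
    rw [H.u_mul, zero_mul, add_zero, add_zero]
  have hcc : ∀ x y : K, ∀ g, g * ⁅l (H.u 0 x), l (H.u 0 y)⁆ = ⁅l (H.u 0 x), l (H.u 0 y)⁆ * g := fun x y g =>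
    R.comm_central (by rw [hl, hl, hcU]) g
  -- the torus acts
  have htor : ∀ x y : K, ∀ k : K, k ≠ 0 → ⁅l (H.u 0 x), l (H.u 0 y)⁆ = ⁅l (H.u 0 (x * k)), l (H.u 0 (y * k))⁆ := by
    intro x y k hk
    obtain ⟨k', hk'⟩ := (Finite.injective_iff_surjective.1 (θ.injective : Function.Injective θ)) k
    have hk0 : k' ≠ 0 := by
      rintro rfl
      rw [map_zero] at hk'
      exact hk hk'.symm
    set g := l (H.d (Units.mk0 k' hk0)) with hg
    have h1 : g * ⁅l (H.u 0 x), l (H.u 0 y)⁆ * g⁻¹ = ⁅l (H.u 0 x), l (H.u 0 y)⁆ := by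
      rw [hcc, mul_inv_cancel_right]
    rw [← h1]
    have h2 : g * ⁅l (H.u 0 x), l (H.u 0 y)⁆ * g⁻¹ = ⁅g * l (H.u 0 x) * g⁻¹, g * l (H.u 0 y) * g⁻¹⁆ := by
      simp only [commutatorElement_def]; group
    rw [h2]
    have h3 : ∀ z, φ (g * l (H.u 0 z) * g⁻¹) = φ (l (H.u 0 (z * k))) := by
      intro z
      rw [map_mul, map_mul, map_inv, hl, hl, hl, H147.Sz.d_conj_u, zero_mul, zero_mul, Units.val_mk0, hk']
    exact Lift.comm_congr R.ker_le (h3 x) (h3 y)
  have hf : ∀ x : K, ⁅l (H.u 0 1), l (H.u 0 x)⁆ = 1 := by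
    refine eight_trivial hK (f := fun x => ⁅l (H.u 0 1), l (H.u 0 x)⁆) ?_ ?_ ?_
    · intro x y
      rw [← Lift.comm_mul_right (hcc 1 y)]
      exact Lift.comm_congr R.ker_le rfl (by rw [map_mul, hl, hl, hl, hX])
    · intro x hx
      rw [htor 1 x⁻¹ x hx, one_mul, inv_mul_cancel₀ hx, ← commutatorElement_inv]
      have h1 : ⁅l (H.u 0 1), l (H.u 0 x)⁆ * ⁅l (H.u 0 1), l (H.u 0 x)⁆ = 1 := by
        rw [← Lift.comm_mul_right (hcc 1 x), ← commutatorElement_one_right (l (H.u 0 1))]
        exact Lift.comm_congr R.ker_le rfl (by rw [map_mul, hl, ← hX, two, H.u_zero, map_one])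
      exact inv_eq_of_mul_eq_one_right h1
    · rw [commutatorElement_self]
  rw [← commutatorElement_eq_one_iff_mul_comm]
  have h1 : ⁅p, q⁆ = ⁅l (H.u 0 s), l (H.u 0 t)⁆ := Lift.comm_congr R.ker_le (by rw [hp, hl]) (by rw [hq, hl])
  rw [h1]
  by_cases hs : s = 0
  · rw [hs, ← commutatorElement_one_left (l (H.u 0 t))]
    exact Lift.comm_congr R.ker_le (by rw [hl, H.u_zero, map_one]) rfl
  · rw [htor s t s⁻¹ (inv_ne_zero hs), mul_inv_cancel₀ hs]
    exact hf _

theorem exists_data (R : PRep φ ρ) (hK : Fintype.card K = 8) (h2 : (2 : F) ≠ 0) (hn : Fintype.card ι ≤ 12) :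
    ∃ (ψ : K → F) (Y : K → P) (m : K → K), Data H φ ρ ψ Y m := by
  classical
  have hch := charP_of_eight hK
  have two : ∀ a : K, a + a = 0 := fun a => CharTwo.add_self_eq_zero a
  obtain ⟨ψ, hψ, hpm, ⟨a0, ha0⟩, hpair⟩ := exists_psi hch (K := K) h2
  have hψ0 : ψ 0 = 1 := by
    have h1 := hψ 0 0
    rw [add_zero] at h1
    rcases hpm 0 with h | h
    · exact h
    · rw [h] at h1
      exfalso
      apply h2
      linear_combination -h1
  have hsurj : Function.Surjective θ := Finite.injective_iff_surjective.1 (θ.injective : Function.Injective θ)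
  have hcU : ∀ x y : K, H.u 0 x * H.u 0 y = H.u 0 y * H.u 0 x := by
    intro x y
    rw [H.u_mul, H.u_mul, zero_mul, add_comm x y]
  have hX : ∀ x y : K, H.u 0 (x + y) = H.u 0 x * H.u 0 y := by
    intro x y
    rw [H.u_mul, zero_mul, add_zero, add_zero]
  -- an element different from 0 and 1
  obtain ⟨w, hw0, hw1⟩ : ∃ w : K, w ≠ 0 ∧ w ≠ 1 := by
    by_contra hcon
    push Not at hcon
    have h1 : (Finset.univ : Finset K) ⊆ {0, 1} := by
      intro a _
      by_cases ha : a = 0
      · simp [ha]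
      · simp [hcon a ha]
    have h2 := Finset.card_le_card h1
    have h3 : ({0, 1} : Finset K).card ≤ 2 := Finset.card_le_two
    rw [Finset.card_univ] at h2
    omega
  obtain ⟨w', hw'⟩ := hsurj w
  have hw'0 : w' ≠ 0 := by
    rintro rfl
    rw [map_zero] at hw'
    exact hw0 hw'.symm
  choose l hl using R.surj
  set h := l (H.d (Units.mk0 w' hw'0)) with hh
  have hhX : ∀ t, φ h * H.u 0 t * (φ h)⁻¹ = H.u 0 (w * t) := by
    intro t
    rw [hh, hl, H147.Sz.d_conj_u, zero_mul, zero_mul, Units.val_mk0, hw', mul_comm]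
  obtain ⟨Y, hY1, hY2, hY3⟩ := Lift.exists_hom R.surj R.ker_le (X := fun b => H.u 0 b) hX
    (fun s t p q hp hq => lifts_comm H R hK hp hq) hw1 hhX
  -- every torus element
  have htor : ∀ (g : P) (k : Kˣ), φ g = H.d k → ∀ t, g * Y t * g⁻¹ = Y (θ k * t) := by
    intro g k hg
    refine Lift.conj_lift R.ker_le ?_ hY2 hY2 hw1 hY3 hY3 ?_
    · intro t
      rw [map_mul, map_mul, map_inv, hY1, hY1, hg, H147.Sz.d_conj_u, zero_mul, zero_mul, mul_comm t]
    · rw [hg, hh, hl, H.d_mul, H.d_inv, H.d_mul]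
      congr 1
      rw [mul_comm k, mul_inv_cancel_right]
  set χ : K → K → F := fun c a => ψ (c * a) with hχ
  set M : K → Matrix ι ι F := fun b => ((ρ (Y b) : GL ι F) : Matrix ι ι F) with hM
  have hM2 : ∀ a b, M (a + b) = M a * M b := by
    intro a b
    simp only [hM]
    rw [hY2, map_mul, Units.val_mul]
  have hY0 : Y 0 = 1 := by
    have := hY2 0 0
    rw [add_zero] at this
    exact left_eq_mul.1 this
  have hM0 : M 0 = 1 := by
    simp only [hM]
    rw [hY0, map_one, Units.val_one]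
  -- ranks
  have hsum : ∑ c, (E χ M c).rank = Fintype.card ι :=
    sum_rank (fun c => E_mul_E_self hpair hM2 c) (fun c c' hc => E_mul_E hpair hM2 hc) (sum_E hpair hM0)
  have hrk : ∀ c c' : K, c ≠ 0 → c' ≠ 0 → (E χ M c).rank = (E χ M c').rank := by
    intro c c' hc hc'
    obtain ⟨k, hk⟩ := hsurj (c / c')
    have hk0 : k ≠ 0 := by
      rintro rfl
      rw [map_zero] at hk
      exact div_ne_zero hc hc' hk.symm
    refine rank_conj (g := ρ (l (H.d (Units.mk0 k hk0)))) ?_
    refine conj_E (m := fun _ => 1) _ (L := fun a => θ k * a) ?_ ?_ ?_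
    · exact (mulLeft_bijective₀ _ (by rw [hk]; exact div_ne_zero hc hc'))
    · intro a
      have h1 := htor _ (Units.mk0 k hk0) (hl (H.d (Units.mk0 k hk0))) a
      rw [Units.val_mk0] at h1
      rw [one_smul]
      simp only [hM]
      rw [← Units.val_mul, ← Units.val_mul, ← map_mul, ← map_mul, ← h1, inv_mul_cancel_right]
    · intro a
      simp only [hχ]
      rw [mul_one]
      congr 1
      rw [hk]
      field_simp
  have hr1 : ∀ c : K, c ≠ 0 → (E χ M c).rank = 1 := by
    intro c hc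
    have h7 : ∑ c ∈ Finset.univ.erase (0 : K), (E χ M c).rank = 7 * (E χ M 1).rank := by
      rw [Finset.sum_congr rfl fun c' hc' => hrk c' 1 (Finset.ne_of_mem_erase hc') one_ne_zero]
      rw [Finset.sum_const, Finset.card_erase_of_mem (Finset.mem_univ _), Finset.card_univ, hK]
      rfl
    have h8 := Finset.add_sum_erase Finset.univ (fun c => (E χ M c).rank) (Finset.mem_univ (0 : K))
    rw [h7, hsum] at h8
    rw [hrk c 1 hc one_ne_zero]
    have h9 : (E χ M 1).rank ≠ 0 := by
      intro h0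
      have hz : ∀ c : K, c ≠ 0 → E χ M c = 0 := fun c hc => eq_zero_of_rank (by rw [hrk c 1 hc one_ne_zero, h0])
      have h10 : E χ M 0 = 1 := by
        have := sum_E (χ := χ) hpair hM0
        rwa [Finset.sum_eq_single (0 : K) (fun c _ hc => hz c hc) (fun hn => absurd (Finset.mem_univ _) hn)] at this
      have h11 := Y_mul_E hpair hM2 1 (0 : K)
      rw [hpair.zero_left, one_smul] at h11
      have h11' : M 1 * E χ M 0 = E χ M 0 := h11
      rw [h10, mul_one] at h11'
      have h12 : Y 1 = 1 := by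
        apply R.inj
        apply Units.ext
        rw [map_one, Units.val_one]
        exact h11'
      have h13 := hY1 1
      rw [h12, map_one] at h13
      have h14 : H.u 0 0 = H.u 0 1 := by rw [H.u_zero, h13]
      exact zero_ne_one (H.u_inj h14).2
    omega
  -- the characters of the elements outside the centre
  have hcomm : ∀ a b, φ (l (H.u a 0)) * φ (Y b) = φ (Y b) * φ (l (H.u a 0)) := by
    intro a b
    rw [hl, hY1, H.u_mul, H.u_mul, map_zero, zero_mul, mul_zero, add_comm a 0, add_comm 0 b]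
  have hcc : ∀ a b, ∀ g, g * ⁅l (H.u a 0), Y b⁆ = ⁅l (H.u a 0), Y b⁆ * g := fun a b g => R.comm_central (hcomm a b) g
  have hm : ∀ a, ∃ c, ∀ b, ((ρ ⁅l (H.u a 0), Y b⁆ : GL ι F) : Matrix ι ι F) = ψ (c * b) • (1 : Matrix ι ι F) := by
    intro a
    obtain ⟨s, hs0, hs1, hs2⟩ := R.exists_sign (f := fun b => ⁅l (H.u a 0), Y b⁆) (fun b => R.comm_of (hcomm a b))
      (fun b c => by rw [hY2, Lift.comm_mul_right (hcc a c)])
    obtain ⟨c, hc⟩ := hpair.exists_of_char hs1 hs0
    exact ⟨c, fun b => by rw [hs2, hc]⟩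
  choose m hm using hm
  have hinj : ∀ x y : K, (∀ b, ψ (x * b) = ψ (y * b)) → x = y := by
    intro x y hxy
    by_contra hne
    have h3 : x + y ≠ 0 := by
      intro h0
      apply hne
      have : x + y = y + y := by rw [h0, two]
      exact add_right_cancel this
    have h4 : ∑ b, ψ ((x + y) * b) = 0 := hpair.sum_right (x + y) h3
    simp only [add_mul, hψ, hxy] at h4
    have h5 : ∀ b, ψ (y * b) * ψ (y * b) = 1 := fun b => hpair.sq y b
    simp only [h5, Finset.sum_const, Finset.card_univ, nsmul_eq_mul, mul_one] at h4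
    exact hpair.card h4
  -- equivariance
  have heq : ∀ (a : K) (k : Kˣ), m a = m (a * k ^ 2 * (θ k)⁻¹) * θ k := by
    intro a k
    apply hinj
    intro b
    set g := l (H.d k) with hg
    have h3 : ⁅l (H.u a 0), Y b⁆ = ⁅l (H.u (a * k ^ 2 * (θ k)⁻¹) 0), Y (θ k * b)⁆ := by
      have h4 : g * ⁅l (H.u a 0), Y b⁆ * g⁻¹ = ⁅l (H.u a 0), Y b⁆ := by rw [hcc, mul_inv_cancel_right]
      rw [← h4]
      have h5 : g * ⁅l (H.u a 0), Y b⁆ * g⁻¹ = ⁅g * l (H.u a 0) * g⁻¹, g * Y b * g⁻¹⁆ := by
        simp only [commutatorElement_def]; group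
      rw [h5, htor g k (hl _)]
      apply Lift.comm_congr R.ker_le _ rfl
      rw [map_mul, map_mul, map_inv, hl, hl, hl, H147.Sz.d_conj_u, zero_mul]
    have h6 := hm a b
    rw [h3, hm] at h6
    have h7 := R.smul_inj h6
    rw [← h7]
    congr 1
    ring
  -- the action
  have hact : ∀ a b b' g, φ g = H.u a b' → ((ρ g : GL ι F) : Matrix ι ι F) * M b = ψ (m a * b) • (M b * ((ρ g : GL ι F) : Matrix ι ι F)) := by
    intro a b b' g hg
    have h3 : ⁅g, Y b⁆ = ⁅l (H.u a 0), Y b⁆ := by
      have h4 : ⁅g, Y b⁆ = ⁅l (H.u a 0) * Y b', Y b⁆ := by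
        apply Lift.comm_congr R.ker_le _ rfl
        rw [hg, map_mul, hl, hY1, H.u_mul, map_zero, mul_zero, add_zero, add_zero, zero_add]
      have h5 : ⁅Y b', Y b⁆ = 1 := commutatorElement_eq_one_iff_mul_comm.2 (by rw [← hY2, ← hY2, add_comm])
      rw [h4, Lift.comm_mul_left (by rw [h5]; intro g; rw [mul_one, one_mul]), h5, one_mul]
    have h6 : g * Y b = ⁅g, Y b⁆ * (Y b * g) := by simp only [commutatorElement_def]; group
    simp only [hM]
    rw [← Units.val_mul, ← map_mul, h6, map_mul, Units.val_mul, h3, hm, Matrix.smul_mul, Matrix.one_mul, map_mul,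
      Units.val_mul]
  have hone : m 1 ≠ 0 := by
    intro h0
    -- a second element
    obtain ⟨k, hk, hka⟩ : ∃ k : Kˣ, m ((k : K) ^ 2 * (θ k)⁻¹) = 0 ∧ θ ((k : K) ^ 2 * (θ k)⁻¹) ≠ (k : K) ^ 2 * (θ k)⁻¹ := by
      refine ⟨Units.mk0 w' hw'0, ?_, ?_⟩
      · have := heq 1 (Units.mk0 w' hw'0)
        rw [h0, one_mul] at this
        rcases mul_eq_zero.1 this.symm with h3 | h3
        · exact h3
        · rw [Units.val_mk0, hw'] at h3
          exact absurd h3 hw0
      · rw [Units.val_mk0, hw', map_mul, map_pow, map_inv₀, hw', ← hw', H.sq, hw']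
        intro h3
        -- w ^ 2 / w' ^ 2 = w' ^ 2 / w
        have h4 : w ^ 3 = w' ^ 4 := by
          field_simp at h3
          linear_combination h3
        have h5 : w' ^ 2 = θ w := by rw [← hw', H.sq]
        have h6 : w ^ 3 = (θ w) ^ 2 := by rw [← h5, h4]; ring
        have h7 : (θ w) ^ 3 = w ^ 4 := by
          have := congrArg θ h6
          rw [map_pow, map_pow, H.sq] at this
          rw [this]
          ring
        have h8 : w ^ 7 = 1 := by
          have := FiniteField.pow_card_sub_one_eq_one w hw0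
          rwa [hK] at this
        -- w ^ 9 = (θ w) ^ 6 = w ^ 8
        have h9 : w ^ 9 = w ^ 8 := by
          have e1 : w ^ 9 = (θ w) ^ 6 := by
            calc w ^ 9 = (w ^ 3) ^ 3 := by ring
              _ = _ := by rw [h6]; ring
          have e2 : w ^ 8 = (θ w) ^ 6 := by
            calc w ^ 8 = (w ^ 4) ^ 2 := by ring
              _ = _ := by rw [← h7]; ring
          rw [e1, e2]
        apply hw1
        have e3 : w ^ 9 = w ^ 2 := by
          calc w ^ 9 = w ^ 7 * w ^ 2 := by ring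
            _ = _ := by rw [h8, one_mul]
        have e4 : w ^ 8 = w := by
          calc w ^ 8 = w ^ 7 * w := by ring
            _ = _ := by rw [h8, one_mul]
        rw [e3, e4] at h9
        have : w * (w - 1) = 0 := by linear_combination h9
        exact sub_eq_zero.1 ((mul_eq_zero.1 this).resolve_left hw0)
    set a := (k : K) ^ 2 * (θ k)⁻¹ with ha
    set x0 := a + θ a with hx0
    have hx00 : x0 ≠ 0 := by
      intro h3
      apply hka
      have : θ a = a := by
        have : a + θ a = a + a := by rw [two, ← hx0, h3]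
        exact add_left_cancel this
      exact this
    -- the commutator
    have hcm : φ ⁅l (H.u 1 0), l (H.u a 0)⁆ = H.u 0 x0 := by
      rw [map_commutatorElement, hl, hl, commutatorElement_def, mul_inv_eq_iff_eq_mul, mul_inv_eq_iff_eq_mul,
        H.u_mul, H.u_mul, H.u_mul]
      congr 1
      · ring
      · rw [map_one]
        have := two a
        rw [hx0]
        linear_combination -this
    obtain ⟨s, hs, hs'⟩ := R.ker (⁅l (H.u 1 0), l (H.u a 0)⁆ * (Y x0)⁻¹) (by rw [map_mul, map_inv, hcm, hY1, mul_inv_cancel])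
    have hval : ∀ c : K, c ≠ 0 → s * ψ (c * x0) = 1 := by
      intro c hc
      have hE := E_mul_E_self hpair hM2 c
      have c1 : ∀ b, ((ρ (l (H.u 1 0)) : GL ι F) : Matrix ι ι F) * M b = M b * ((ρ (l (H.u 1 0)) : GL ι F) : Matrix ι ι F) := by
        intro b
        rw [hact 1 b 0 _ (hl _), h0, zero_mul]
        rw [hψ0, one_smul]
      have c2 : ∀ b, ((ρ (l (H.u a 0)) : GL ι F) : Matrix ι ι F) * M b = M b * ((ρ (l (H.u a 0)) : GL ι F) : Matrix ι ι F) := by
        intro b
        rw [hact a b 0 _ (hl _), hk, zero_mul]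
        rw [hψ0, one_smul]
      obtain ⟨d1, hd1⟩ := scalar_of_rank_one hE (hr1 c hc) (comm_E (χ := χ) c1 c)
      obtain ⟨d2, hd2⟩ := scalar_of_rank_one hE (hr1 c hc) (comm_E (χ := χ) c2 c)
      set A := l (H.u 1 0) with hA
      set B := l (H.u a 0) with hB
      have e1 : A * B = (⁅A, B⁆ * (Y x0)⁻¹) * Y x0 * (B * A) := by simp only [commutatorElement_def]; group
      have e2 := congrArg (fun g => ((ρ g : GL ι F) : Matrix ι ι F) * E χ M c) e1
      simp only [map_mul ρ (A) B, map_mul ρ _ (B * A), map_mul ρ _ (Y x0), map_mul ρ B A, Units.val_mul] at e2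
      rw [hs'] at e2
      have e3 : ((ρ A : GL ι F) : Matrix ι ι F) * ((ρ B : GL ι F) : Matrix ι ι F) * E χ M c = (d1 * d2) • E χ M c := by
        rw [Matrix.mul_assoc, hd2, Matrix.mul_smul, hd1, smul_smul, mul_comm]
      have e4 : s • (1 : Matrix ι ι F) * ((ρ (Y x0) : GL ι F) : Matrix ι ι F) *
          (((ρ B : GL ι F) : Matrix ι ι F) * ((ρ A : GL ι F) : Matrix ι ι F)) * E χ M c =
          (s * ψ (c * x0) * (d1 * d2)) • E χ M c := by
        have e5 : M x0 * E χ M c = ψ (c * x0) • E χ M c := Y_mul_E hpair hM2 x0 c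
        rw [Matrix.smul_mul, Matrix.one_mul, Matrix.mul_assoc, Matrix.mul_assoc, hd1, Matrix.mul_smul, hd2, smul_smul,
          Matrix.mul_smul, Matrix.smul_mul]
        rw [show ((ρ (Y x0) : GL ι F) : Matrix ι ι F) = M x0 from rfl, e5, smul_smul, smul_smul]
        congr 1
        ring
      rw [e3, e4] at e2
      have hE0 : E χ M c ≠ 0 := by
        intro h3
        have := hr1 c hc
        rw [h3, Matrix.rank_zero] at this
        exact zero_ne_one this
      have hd10 : d1 ≠ 0 := by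
        rintro rfl
        rw [zero_smul] at hd1
        have : ((ρ A⁻¹ : GL ι F) : Matrix ι ι F) * (((ρ A : GL ι F) : Matrix ι ι F) * E χ M c) = 0 := by rw [hd1, mul_zero]
        rw [← Matrix.mul_assoc, ← Units.val_mul, ← map_mul, inv_mul_cancel, map_one, Units.val_one, Matrix.one_mul] at this
        exact hE0 this
      have hd20 : d2 ≠ 0 := by
        rintro rfl
        rw [zero_smul] at hd2
        have : ((ρ B⁻¹ : GL ι F) : Matrix ι ι F) * (((ρ B : GL ι F) : Matrix ι ι F) * E χ M c) = 0 := by rw [hd2, mul_zero]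
        rw [← Matrix.mul_assoc, ← Units.val_mul, ← map_mul, inv_mul_cancel, map_one, Units.val_one, Matrix.one_mul] at this
        exact hE0 this
      have e6 : (d1 * d2) = s * ψ (c * x0) * (d1 * d2) := by
        have e7 : (d1 * d2 - s * ψ (c * x0) * (d1 * d2)) • E χ M c = 0 := by rw [sub_smul, e2, sub_self]
        exact sub_eq_zero.1 ((smul_eq_zero.1 e7).resolve_right hE0)
      have e8 : (s * ψ (c * x0) - 1) * (d1 * d2) = 0 := by linear_combination -e6
      exact sub_eq_zero.1 ((mul_eq_zero.1 e8).resolve_right (mul_ne_zero hd10 hd20))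
    have hv : ∀ z : K, z ≠ 0 → s * ψ z = 1 := by
      intro z hz
      have := hval (z / x0) (div_ne_zero hz hx00)
      rwa [div_mul_cancel₀ _ hx00] at this
    have v1 := hv 1 one_ne_zero
    have v2 := hv w hw0
    have hw2 : 1 + w ≠ 0 := by
      intro h3
      apply hw1
      have : 1 + w = 1 + 1 := by rw [h3, two]
      exact add_left_cancel this
    have v3 := hv (1 + w) hw2
    rw [hψ] at v3
    have v4 : s = 1 := by
      calc s = s * (s * ψ 1) * (s * ψ w) := by rw [v1, v2, mul_one, mul_one]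
        _ = (s * s) * (s * (ψ 1 * ψ w)) := by ring
        _ = 1 := by rw [hs, v3, one_mul]
    have ha00 : a0 ≠ 0 := by
      rintro rfl
      have h3 := hψ 0 0
      rw [add_zero, ha0] at h3
      apply h2
      linear_combination -h3
    have v5 := hv a0 ha00
    rw [v4, ha0] at v5
    apply h2
    linear_combination -v5
  have hm0 : m 0 = 0 := by
    have h3 := heq 0 (Units.mk0 w' hw'0)
    rw [zero_mul, zero_mul, Units.val_mk0, hw'] at h3
    have h4 : m 0 * (w - 1) = 0 := by linear_combination -h3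
    exact (mul_eq_zero.1 h4).resolve_right (sub_ne_zero.2 hw1)
  have honto : ∀ z, ∃ a, m a = z := by
    intro z
    by_cases hz : z = 0
    · exact ⟨0, by rw [hm0, hz]⟩
    · obtain ⟨k, hk⟩ := hsurj (m 1 / z)
      have hk0 : k ≠ 0 := by
        rintro rfl
        rw [map_zero] at hk
        exact div_ne_zero hone hz hk.symm
      refine ⟨1 * k ^ 2 * (θ k)⁻¹, ?_⟩
      have h3 := heq 1 (Units.mk0 k hk0)
      rw [Units.val_mk0] at h3
      rw [hk] at h3 ⊢
      field_simp at h3 ⊢
      rw [← mul_right_inj' hone, ← h3]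
  have hr0 : (E χ M 0).rank = 1 := by
    rw [← hr1 (m 1) hone]
    refine rank_conj (g := ρ (l (H.u 1 0))) ?_
    refine conj_E (m := fun b => ψ (m 1 * b)) _ (L := id) Function.bijective_id ?_ ?_
    · intro b
      exact hact 1 b 0 _ (hl _)
    · intro b
      simp only [hχ, id]
      rw [zero_mul]
      rw [hψ0, one_mul]
  have hrall : ∀ c, (E χ M c).rank = 1 := fun c => by
    by_cases hc : c = 0
    · rw [hc]; exact hr0
    · exact hr1 c hc
  refine ⟨ψ, Y, m, hpm, ⟨a0, ha0⟩, hpair, hY1, hY2, hact, hone, honto, hrall, ?_⟩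
  rw [← hsum, Finset.sum_congr rfl fun c _ => hrall c, Finset.sum_const, Finset.card_univ, hK]
  rfl

end Cfsg.Agent.H814.Sz8
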