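import Cfsg.Agent.H814.SzEight
import Cfsg.Agent.Lib.PSL2Torus
import Cfsg.Prelude.Def_GeometricClasses

/-!
# `Sz(8)` in degree 8: self-dual, no alternating form, the quadratic form has plus type (helper814)
-/

set_option autoImplicit false
set_option linter.unusedSectionVars false

namespace Cfsg.Agent.H814.Sz8

open Subgroup Matrix Cfsg.Agent.H814.Wt Cfsg.Agent.LieRecognition.SzMatrix
open scoped commutatorElement

section data

variable {K : Type*} [Field K] [Fintype K] {θ : K →+* K} {e : ℕ} {H : Good K θ e}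
variable {P : Type*} [Group P] {ι : Type*} [Fintype ι] [DecidableEq ι] {F : Type*} [Field F]
variable {φ : P →* ↥(Cfsg.Lie.Sz K e)} {ρ : P →* GL ι F} {ψ : K → F} {Y : K → P} {m : K → K}

theorem Data.Y0 (D : Data H φ ρ ψ Y m) : Y 0 = 1 := by
  have := D.add 0 0
  rw [add_zero] at this
  exact left_eq_mul.1 this

theorem Data.m0 (D : Data H φ ρ ψ Y m) : m 0 = 0 := by
  by_contra h0
  obtain ⟨a0, ha0⟩ := D.neg
  have h1 := D.act 0 (a0 / m 0) 0 1 (by rw [map_one, H.u_zero])
  rw [map_one, Units.val_one, Matrix.one_mul, Matrix.mul_one, mul_div_cancel₀ _ h0, ha0] at h1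
  have h2 : (ρ (Y (a0 / m 0)) : Matrix ι ι F) * ((ρ (Y (a0 / m 0))⁻¹ : GL ι F) : Matrix ι ι F) =
      ((-1 : F) • (ρ (Y (a0 / m 0)) : Matrix ι ι F)) * ((ρ (Y (a0 / m 0))⁻¹ : GL ι F) : Matrix ι ι F) := by rw [← h1]
  rw [Matrix.smul_mul, ← Units.val_mul, ← map_mul, mul_inv_cancel, map_one, Units.val_one] at h2
  have h3 := D.card
  have h4 : Nonempty ι := Fintype.card_pos_iff.1 (by omega)
  obtain ⟨i⟩ := h4
  have h5 := congrFun (congrFun h2 i) i
  rw [Matrix.one_apply_eq, Matrix.smul_apply, Matrix.one_apply_eq, smul_eq_mul, mul_one] at h5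
  have h6 := D.pair.card
  obtain ⟨a1, ha1⟩ := D.neg
  have h7 := D.pair.sum_right 1 one_ne_zero
  -- all values are one
  have h8 : ∀ a, ψ a = 1 := fun a => by rcases D.pm a with h | h <;> [exact h; rw [h, ← h5]]
  simp only [h8, Finset.sum_const, Finset.card_univ, nsmul_eq_mul, mul_one] at h7
  exact h6 h7

theorem Data.m_ne (D : Data H φ ρ ψ Y m) {a : K} (ha : a ≠ 0) : m a ≠ 0 := by
  intro h0
  have h1 : Function.Injective m := Finite.injective_iff_surjective.2 D.onto
  exact ha (h1 (by rw [h0, D.m0]))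

theorem Data.two (D : Data H φ ρ ψ Y m) : (2 : F) ≠ 0 := by
  intro h2
  have h1 : ∀ a, ψ a = 1 := fun a => by
    rcases D.pm a with h | h
    · exact h
    · rw [h]; linear_combination -h2
  have h7 := D.pair.sum_right 1 one_ne_zero
  simp only [h1, Finset.sum_const, Finset.card_univ, nsmul_eq_mul, mul_one] at h7
  exact D.pair.card h7

/-- unipotent elements have trace zero -/
theorem Data.trace_unip (R : PRep φ ρ) (D : Data H φ ρ ψ Y m) {g : P} {a b : K} (hg : φ g = H.u a b) (hab : a ≠ 0 ∨ b ≠ 0) :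
    ((ρ g : GL ι F) : Matrix ι ι F).trace = 0 := by
  have h2 := D.two
  obtain ⟨a0, ha0⟩ := D.neg
  by_cases ha : a = 0
  · subst ha
    have hb : b ≠ 0 := hab.resolve_left fun h => h rfl
    -- g = k * Y b
    have h3 : φ (g * (Y b)⁻¹) = 1 := by rw [map_mul, map_inv, hg, D.lift, mul_inv_cancel]
    obtain ⟨s, -, hs⟩ := R.ker _ h3
    have h4 : ((ρ g : GL ι F) : Matrix ι ι F) = s • ((ρ (Y b) : GL ι F) : Matrix ι ι F) := by
      have h5 : g = g * (Y b)⁻¹ * Y b := by group
      rw [h5, map_mul, Units.val_mul, hs, Matrix.smul_mul, Matrix.one_mul]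
    rw [h4, Matrix.trace_smul]
    obtain ⟨a, ha⟩ := D.onto (a0 / b)
    obtain ⟨u, hu⟩ := R.surj (H.u a 0)
    have h5 := D.act a b 0 u hu
    rw [ha, div_mul_cancel₀ _ hb, ha0] at h5
    rw [trace_zero_of_anti h2 (y := ((ρ u : GL ι F) : Matrix ι ι F)) (ρ u).isUnit, smul_zero]
    rw [h5, neg_smul, one_smul, neg_neg]
  · have h3 := D.m_ne ha
    have h4 := D.act a (a0 / m a) b g hg
    rw [mul_div_cancel₀ _ h3, ha0, neg_smul, one_smul] at h4
    exact trace_zero_of_anti h2 (ρ (Y (a0 / m a))).isUnit h4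

theorem sq_lift (R : PRep φ ρ) (D : Data H φ ρ ψ Y m) {p : P} (h1 : φ p ≠ 1) (h2 : φ p * φ p = 1) : p * p = 1 := by
  have h3 := H147.Sz.isConj_invol H h1 h2
  obtain ⟨x, hx⟩ := isConj_iff.1 h3
  obtain ⟨y, rfl⟩ := R.surj x
  have h4 : φ (y * p * y⁻¹ * (Y 1)⁻¹) = 1 := by
    rw [map_mul, map_mul, map_mul, map_inv, map_inv, hx, D.lift, mul_inv_cancel]
  set k := y * p * y⁻¹ * (Y 1)⁻¹ with hk
  obtain ⟨s, hs, hs'⟩ := R.ker _ h4
  have hk2 : k * k = 1 := by
    apply R.inj
    apply Units.ext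
    rw [map_mul, Units.val_mul, hs', map_one, Units.val_one, Matrix.smul_mul, Matrix.one_mul, smul_smul, hs, one_smul]
  have hY : Y 1 * Y 1 = 1 := by rw [← D.add, D.pair.two, D.Y0]
  have hc := Lift.central R.ker_le h4
  have h5 : p = y⁻¹ * (k * Y 1) * y := by rw [hk]; group
  have h6 : k * Y 1 * (k * Y 1) = 1 := by
    calc k * Y 1 * (k * Y 1) = k * (Y 1 * k) * Y 1 := by group
      _ = k * (k * Y 1) * Y 1 := by rw [hc]
      _ = (k * k) * (Y 1 * Y 1) := by group
      _ = 1 := by rw [hk2, hY, one_mul]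
  calc p * p = y⁻¹ * (k * Y 1 * (k * Y 1)) * y := by rw [h5]; group
    _ = 1 := by rw [h6]; group

/-- **self-dual** -/
theorem Data.trace_inv (R : PRep φ ρ) (D : Data H φ ρ ψ Y m) (hR : H147.Sz.Real H) (g : P) :
    ((ρ g⁻¹ : GL ι F) : Matrix ι ι F).trace = ((ρ g : GL ι F) : Matrix ι ι F).trace := by
  by_cases h1 : φ g = 1
  · obtain ⟨s, hs, hs'⟩ := R.ker _ h1
    have h3 : g * g = 1 := by
      apply R.inj
      apply Units.ext
      rw [map_mul, Units.val_mul, hs', map_one, Units.val_one, Matrix.smul_mul, Matrix.one_mul, smul_smul, hs, one_smul]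
    rw [inv_eq_of_mul_eq_one_right h3]
  rcases hR _ h1 with ⟨h2, i, hi1, hi2, hi3⟩ | ⟨a, b, hab⟩
  · obtain ⟨j, rfl⟩ := R.surj i
    have hj := sq_lift R D hi1 hi2
    have hji : j⁻¹ = j := inv_eq_of_mul_eq_one_right hj
    have hk1 : φ (j * g) ≠ 1 := by
      intro h3
      apply h2
      rw [map_mul] at h3
      have h4 : φ g = φ j := by
        calc φ g = (φ j * φ j) * φ g := by rw [hi2, one_mul]
          _ = φ j * (φ j * φ g) := by group
          _ = φ j := by rw [h3, mul_one]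
      rw [h4, hi2]
    have hk2 : φ (j * g) * φ (j * g) = 1 := by
      rw [map_mul]
      calc φ j * φ g * (φ j * φ g) = (φ j * φ g * φ j) * φ g := by group
        _ = 1 := by rw [hi3, inv_mul_cancel]
    have hk := sq_lift R D hk1 hk2
    have h3 : g⁻¹ = j * g * j⁻¹ := by
      rw [hji]
      have h4 : j * g * (j * g) = 1 := hk
      apply inv_eq_of_mul_eq_one_left
      rw [← h4]
      group
    rw [h3, map_mul, map_mul, Units.val_mul, Units.val_mul, Matrix.trace_mul_comm, ← Matrix.mul_assoc, ← Units.val_mul,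
      ← map_mul, inv_mul_cancel, map_one, Units.val_one, Matrix.one_mul]
  · obtain ⟨x, hx⟩ := isConj_iff.1 hab
    obtain ⟨y, rfl⟩ := R.surj x
    have hne : a ≠ 0 ∨ b ≠ 0 := by
      by_contra hcon
      push Not at hcon
      rw [hcon.1, hcon.2, H.u_zero] at hx
      apply h1
      have h3 : φ g = (φ y)⁻¹ * (φ y * φ g * (φ y)⁻¹) * φ y := by group
      rw [h3, hx]
      group
    have hne' : a ≠ 0 ∨ b + a * θ a ≠ 0 := by
      by_cases ha : a = 0
      · right
        rw [ha, zero_mul, add_zero]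
        exact hne.resolve_left fun h => h ha
      · exact Or.inl ha
    have t1 := D.trace_unip R (g := y * g * y⁻¹) (by rw [map_mul, map_mul, map_inv]; exact hx) hne
    have t2 := D.trace_unip R (g := y * g⁻¹ * y⁻¹) (a := a) (b := b + a * θ a) (by
      have : y * g⁻¹ * y⁻¹ = (y * g * y⁻¹)⁻¹ := by group
      rw [this, map_inv, map_mul, map_mul, map_inv, hx, H.u_inv]) hne'
    have key : ∀ z : P, ((ρ (y * z * y⁻¹) : GL ι F) : Matrix ι ι F).trace = ((ρ z : GL ι F) : Matrix ι ι F).trace := by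
      intro z
      rw [map_mul, map_mul, Units.val_mul, Units.val_mul, Matrix.trace_mul_comm, ← Matrix.mul_assoc, ← Units.val_mul,
        ← map_mul, inv_mul_cancel, map_one, Units.val_one, Matrix.one_mul]
    rw [← key g⁻¹, ← key g, t1, t2]

end data

section forms

variable {K : Type*} [Field K] [Fintype K] {θ : K →+* K} {e : ℕ} {H : Good K θ e}
variable {P : Type*} [Group P] {ι : Type} [Fintype ι] [DecidableEq ι] {F : Type*} [Field F]
variable {φ : P →* ↥(Cfsg.Lie.Sz K e)} {ρ : P →* GL ι F} {ψ : K → F} {Y : K → P} {m : K → K}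

/-- the weight spaces are orthogonal for an invariant form -/
theorem Data.orth (D : Data H φ ρ ψ Y m) {f : (ι → F) → (ι → F) → F} (hf : Cfsg.Geo.IsBilinearForm f)
    (hinv : ∀ g u v, f (((ρ g : GL ι F) : Matrix ι ι F) *ᵥ u) (((ρ g : GL ι F) : Matrix ι ι F) *ᵥ v) = f u v) {c c' : K}
    (hc : c ≠ c') (u v : ι → F) :
    f (E (fun c a => ψ (c * a)) (fun b => ((ρ (Y b) : GL ι F) : Matrix ι ι F)) c *ᵥ u)
      (E (fun c a => ψ (c * a)) (fun b => ((ρ (Y b) : GL ι F) : Matrix ι ι F)) c' *ᵥ v) = 0 := by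
  obtain ⟨a0, ha0⟩ := D.neg
  have two : ∀ a : K, a + a = 0 := D.pair.two
  have hcc : c + c' ≠ 0 := by
    intro h0
    apply hc
    have : c + c' = c' + c' := by rw [h0, two]
    exact add_right_cancel this
  have hM : ∀ a b, (fun b => ((ρ (Y b) : GL ι F) : Matrix ι ι F)) (a + b) =
      (fun b => ((ρ (Y b) : GL ι F) : Matrix ι ι F)) a * (fun b => ((ρ (Y b) : GL ι F) : Matrix ι ι F)) b := by
    intro a b
    simp only
    rw [D.add, map_mul, Units.val_mul]
  have h1 := hinv (Y (a0 / (c + c'))) (E (fun c a => ψ (c * a)) (fun b => ((ρ (Y b) : GL ι F) : Matrix ι ι F)) c *ᵥ u)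
    (E (fun c a => ψ (c * a)) (fun b => ((ρ (Y b) : GL ι F) : Matrix ι ι F)) c' *ᵥ v)
  rw [Matrix.mulVec_mulVec, Matrix.mulVec_mulVec] at h1
  have e1 := Y_mul_E (ι := ι) (Y := fun b => ((ρ (Y b) : GL ι F) : Matrix ι ι F)) D.pair hM (a0 / (c + c')) c
  have e2 := Y_mul_E (ι := ι) (Y := fun b => ((ρ (Y b) : GL ι F) : Matrix ι ι F)) D.pair hM (a0 / (c + c')) c'
  rw [e1, e2, Matrix.smul_mulVec, Matrix.smul_mulVec, hf.smul_left, hf.smul_right, ← mul_assoc] at h1
  have h3 : ψ (c * (a0 / (c + c'))) * ψ (c' * (a0 / (c + c'))) = -1 := by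
    have h4 := D.pair.add_left c c' (a0 / (c + c'))
    rw [← h4, mul_div_cancel₀ _ hcc, ha0]
  rw [h3] at h1
  have h5 : (2 : F) * f (E (fun c a => ψ (c * a)) (fun b => ((ρ (Y b) : GL ι F) : Matrix ι ι F)) c *ᵥ u)
    (E (fun c a => ψ (c * a)) (fun b => ((ρ (Y b) : GL ι F) : Matrix ι ι F)) c' *ᵥ v) = 0 := by linear_combination -h1
  exact (mul_eq_zero.1 h5).resolve_left D.two

theorem Data.hM (D : Data H φ ρ ψ Y m) (a b : K) : ((ρ (Y (a + b)) : GL ι F) : Matrix ι ι F) =
    ((ρ (Y a) : GL ι F) : Matrix ι ι F) * ((ρ (Y b) : GL ι F) : Matrix ι ι F) := by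
  rw [D.add, map_mul, Units.val_mul]

theorem Data.hM0 (D : Data H φ ρ ψ Y m) : ((ρ (Y 0) : GL ι F) : Matrix ι ι F) = 1 := by
  rw [D.Y0, map_one, Units.val_one]

theorem Data.sum_vec (D : Data H φ ρ ψ Y m) (v : ι → F) :
    ∑ c, E (fun c a => ψ (c * a)) (fun b => ((ρ (Y b) : GL ι F) : Matrix ι ι F)) c *ᵥ v = v := by
  rw [← Matrix.sum_mulVec, sum_E (ι := ι) D.pair D.hM0, Matrix.one_mulVec]

/-- the weight spaces are lines -/
theorem Data.line (D : Data H φ ρ ψ Y m) (c : K) : ∃ z : ι → F, z ≠ 0 ∧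
    E (fun c a => ψ (c * a)) (fun b => ((ρ (Y b) : GL ι F) : Matrix ι ι F)) c *ᵥ z = z ∧
    ∀ v, ∃ t : F, E (fun c a => ψ (c * a)) (fun b => ((ρ (Y b) : GL ι F) : Matrix ι ι F)) c *ᵥ v = t • z := by
  set e := E (fun c a => ψ (c * a)) (fun b => ((ρ (Y b) : GL ι F) : Matrix ι ι F)) c with he
  have hee : e * e = e := E_mul_E_self (ι := ι) D.pair D.hM c
  have h1 : Module.finrank F (W e) = 1 := D.rank c
  obtain ⟨z, hz, hspan⟩ := finrank_eq_one_iff'.1 h1
  refine ⟨z, fun h => hz (Subtype.ext h), (mem_W hee).1 z.2, fun v => ?_⟩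
  obtain ⟨t, ht⟩ := hspan ⟨e *ᵥ v, LinearMap.mem_range_self _ v⟩
  exact ⟨t, (congrArg Subtype.val ht).symm⟩

/-- **no alternating form** -/
theorem Data.not_symplectic (D : Data H φ ρ ψ Y m) {f : (ι → F) → (ι → F) → F} (hf : Cfsg.Geo.IsSymplecticForm f)
    (hinv : ∀ g u v, f (((ρ g : GL ι F) : Matrix ι ι F) *ᵥ u) (((ρ g : GL ι F) : Matrix ι ι F) *ᵥ v) = f u v) : False := by
  classical
  have hb := hf.bilinear
  have hsl : ∀ (s : Finset K) (g : K → ι → F) (v : ι → F), f (∑ c ∈ s, g c) v = ∑ c ∈ s, f (g c) v := by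
    intro s g v
    induction s using Finset.induction_on with
    | empty =>
      rw [Finset.sum_empty, Finset.sum_empty]
      have := hb.smul_left 0 0 v
      rw [zero_mul, zero_smul] at this
      exact this
    | insert a s ha ih => rw [Finset.sum_insert ha, Finset.sum_insert ha, hb.add_left, ih]
  have hsr : ∀ (s : Finset K) (g : K → ι → F) (v : ι → F), f v (∑ c ∈ s, g c) = ∑ c ∈ s, f v (g c) := by
    intro s g v
    induction s using Finset.induction_on with
    | empty =>
      rw [Finset.sum_empty, Finset.sum_empty]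
      have := hb.smul_right 0 v 0
      rw [zero_mul, zero_smul] at this
      exact this
    | insert a s ha ih => rw [Finset.sum_insert ha, Finset.sum_insert ha, hb.add_right, ih]
  have hall : ∀ u v, f u v = 0 := by
    intro u v
    rw [← D.sum_vec u, hsl]
    apply Finset.sum_eq_zero
    intro c _
    rw [← D.sum_vec v, hsr]
    apply Finset.sum_eq_zero
    intro c' _
    by_cases hc : c = c'
    · subst hc
      obtain ⟨z, -, -, hz⟩ := D.line c
      obtain ⟨s, hs⟩ := hz u
      obtain ⟨t, ht⟩ := hz v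
      rw [hs, ht, hb.smul_left, hb.smul_right, hf.alternating, mul_zero, mul_zero]
    · exact D.orth hb hinv hc u v
  obtain ⟨z, hz, -, -⟩ := D.line 0
  obtain ⟨⟨x, hx⟩, -⟩ := hf.nondegenerate z hz
  exact hx (hall x z)

/-- **the quadratic form has plus type** -/
theorem Data.plus [Finite F] (R : PRep φ ρ) (D : Data H φ ρ ψ Y m) (hK : Fintype.card K = 8) {Q : (ι → F) → F}
    (hQ : Cfsg.Geo.IsNondegenerateQuadraticForm Q)
    (hinv : ∀ g v, Q (((ρ g : GL ι F) : Matrix ι ι F) *ᵥ v) = Q v) : Cfsg.Geo.IsPlusTypeOn Q ⊤ := by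
  classical
  have hb := hQ.polar_bilinear
  set B := QuadraticMap.polar Q with hB
  have hBinv : ∀ g u v, B (((ρ g : GL ι F) : Matrix ι ι F) *ᵥ u) (((ρ g : GL ι F) : Matrix ι ι F) *ᵥ v) = B u v := by
    intro g u v
    rw [hB, QuadraticMap.polar, QuadraticMap.polar, ← Matrix.mulVec_add, hinv, hinv, hinv]
  have hQadd : ∀ u v, Q (u + v) = Q u + Q v + B u v := by
    intro u v
    rw [hB, QuadraticMap.polar]
    ring
  set χ : K → K → F := fun c a => ψ (c * a) with hχ
  set M : K → Matrix ι ι F := fun b => ((ρ (Y b) : GL ι F) : Matrix ι ι F) with hM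
  obtain ⟨z, hz0, hz1, hz2⟩ := D.line 0
  -- transported vectors
  choose a ha using D.onto
  choose g hg using fun c => R.surj (H.u (a c) 0)
  set v : K → ι → F := fun c => ((ρ (g c) : GL ι F) : Matrix ι ι F) *ᵥ z with hv
  have hEv : ∀ c, E χ M c *ᵥ v c = v c := by
    intro c
    have h1 : ((ρ (g c) : GL ι F) : Matrix ι ι F) * E χ M 0 = E χ M c * ((ρ (g c) : GL ι F) : Matrix ι ι F) := by
      refine conj_E (m := fun b => ψ (m (a c) * b)) _ (L := id) Function.bijective_id ?_ ?_
      · intro b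
        exact D.act (a c) b 0 _ (hg c)
      · intro b
        simp only [hχ, id]
        rw [zero_mul, ha]
        have := D.pair.zero_left (0 : K)
        simp only [zero_mul] at this
        rw [this, one_mul]
    simp only [hv]
    rw [Matrix.mulVec_mulVec, ← h1, ← Matrix.mulVec_mulVec]
    congr 1
  have hQv : ∀ c, Q (v c) = Q z := fun c => hinv _ _
  have hBv : ∀ c c', c ≠ c' → B (v c) (v c') = 0 := by
    intro c c' hc
    rw [← hEv c, ← hEv c']
    exact D.orth hb hBinv hc _ _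
  have hE0 : ∀ c c', c ≠ c' → E χ M c *ᵥ v c' = 0 := by
    intro c c' hc
    rw [← hEv c', Matrix.mulVec_mulVec, E_mul_E (ι := ι) D.pair D.hM hc, Matrix.zero_mulVec]
  have hv0 : ∀ c, v c ≠ 0 := by
    intro c h0
    apply hz0
    have h1 : ((ρ (g c)⁻¹ : GL ι F) : Matrix ι ι F) *ᵥ v c = z := by
      simp only [hv]
      rw [Matrix.mulVec_mulVec, ← Units.val_mul, ← map_mul, inv_mul_cancel, map_one, Units.val_one, Matrix.one_mulVec]
    rw [← h1, h0, Matrix.mulVec_zero]
  have hQz0 : Q 0 = 0 := by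
    have := hQ.smul 0 0
    rw [zero_smul] at this
    rw [this]; ring
  have hQsum : ∀ (s : Finset K) (x : K → F), Q (∑ c ∈ s, x c • v c) = (∑ c ∈ s, x c ^ 2) * Q z := by
    intro s x
    induction s using Finset.induction_on with
    | empty => rw [Finset.sum_empty, Finset.sum_empty, hQz0, zero_mul]
    | insert c s hc ih =>
      rw [Finset.sum_insert hc, Finset.sum_insert hc, hQadd, ih, hQ.smul, hQv]
      have h3 : ∀ (t : Finset K), c ∉ t → B (x c • v c) (∑ d ∈ t, x d • v d) = 0 := by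
        intro t
        induction t using Finset.induction_on with
        | empty =>
          intro _
          rw [Finset.sum_empty]
          have := hb.smul_right 0 (x c • v c) 0
          rw [zero_mul, zero_smul] at this
          exact this
        | insert d t hd ih' =>
          intro hcd
          rw [Finset.sum_insert hd, hb.add_right, hb.smul_left, hb.smul_right,
            hBv c d (fun h => hcd (h ▸ Finset.mem_insert_self _ _)), mul_zero, mul_zero, zero_add]
          exact ih' fun h => hcd (Finset.mem_insert_of_mem h)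
      rw [h3 s hc]
      ring
  obtain ⟨α, β, hαβ⟩ := Cfsg.Agent.Lib.PSL2Torus.exists_sum_sq D.two (-1 : F)
  -- an enumeration of the field
  have en : Fin 8 ≃ K := (Fintype.equivFinOfCardEq hK).symm
  let x : (Fin 4 → F) → K → F := fun t c =>
    ![t 0, t 1, α * t 0 - β * t 1, β * t 0 + α * t 1, t 2, t 3, α * t 2 - β * t 3, β * t 2 + α * t 3] (en.symm c)
  have hxadd : ∀ s t c, x (s + t) c = x s c + x t c := by
    intro s t c
    obtain ⟨i, rfl⟩ := en.surjective c
    simp only [x, Equiv.symm_apply_apply]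
    fin_cases i <;> simp <;> ring
  have hxsmul : ∀ (r : F) t c, x (r • t) c = r * x t c := by
    intro r t c
    obtain ⟨i, rfl⟩ := en.surjective c
    simp only [x, Equiv.symm_apply_apply]
    fin_cases i <;> simp <;> ring
  let L : (Fin 4 → F) →ₗ[F] (ι → F) :=
    { toFun := fun t => ∑ c, x t c • v c
      map_add' := fun s t => by
        rw [← Finset.sum_add_distrib]
        apply Finset.sum_congr rfl
        intro c _
        rw [hxadd, add_smul]
      map_smul' := fun r t => by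
        rw [RingHom.id_apply, Finset.smul_sum]
        apply Finset.sum_congr rfl
        intro c _
        rw [hxsmul, mul_smul] }
  have hL : ∀ t, L t = ∑ c, x t c • v c := fun t => rfl
  have hEL : ∀ t c, E χ M c *ᵥ L t = x t c • v c := by
    intro t c
    rw [hL, Matrix.mulVec_sum, Finset.sum_eq_single c]
    · rw [Matrix.mulVec_smul, hEv]
    · intro d _ hd
      rw [Matrix.mulVec_smul, hE0 c d hd.symm, smul_zero]
    · intro hn
      exact absurd (Finset.mem_univ _) hn
  have hLinj : Function.Injective L := by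
    rw [← LinearMap.ker_eq_bot, LinearMap.ker_eq_bot']
    intro t ht
    have h1 : ∀ c, x t c = 0 := by
      intro c
      have h3 := hEL t c
      rw [ht, Matrix.mulVec_zero] at h3
      exact (smul_eq_zero.1 h3.symm).resolve_right (hv0 c)
    funext i
    have h3 := h1 (en 0)
    have h4 := h1 (en 1)
    have h5 := h1 (en 4)
    have h6 := h1 (en 5)
    simp only [x, Equiv.symm_apply_apply] at h3 h4 h5 h6
    fin_cases i
    · exact h3
    · exact h4
    · exact h5
    · exact h6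
  refine ⟨LinearMap.range L, le_top, ?_, ?_⟩
  · rintro w ⟨t, rfl⟩
    rw [hL, hQsum, ← Equiv.sum_comp en]
    simp only [x, Equiv.symm_apply_apply]
    have : ∑ i : Fin 8, (![t 0, t 1, α * t 0 - β * t 1, β * t 0 + α * t 1, t 2, t 3, α * t 2 - β * t 3, β * t 2 + α * t 3] i) ^ 2 =
        (t 0 ^ 2 + t 1 ^ 2 + t 2 ^ 2 + t 3 ^ 2) * (α ^ 2 + β ^ 2 + 1) := by
      rw [Fin.sum_univ_eight]
      simp
      ring
    rw [this, hαβ]
    ring
  · rw [LinearMap.finrank_range_of_inj hLinj, finrank_top, Module.finrank_fintype_fun_eq_card,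
      Module.finrank_fintype_fun_eq_card, Fintype.card_fin, D.card]

end forms

end Cfsg.Agent.H814.Sz8
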