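import Mathlib

/-!
# Weight spaces of elementary abelian 2-groups (helper814)

`A` a finite additive group of exponent 2 with a perfect pairing `χ : A → A → F`, `Y : A → Matrix ι ι F` a representation:
the idempotents `E χ Y c`, their ranks, conjugation, restriction of commuting matrices.
-/

set_option autoImplicit false
set_option linter.unusedSectionVars false

namespace Cfsg.Agent.H814.Wt

open Matrix Module

universe u

section pair

variable {A : Type*} [AddCommGroup A] [Fintype A] {F : Type*} [Field F]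

/-- a perfect pairing of `A` with itself, with values `± 1` -/
structure Pair (χ : A → A → F) : Prop where
  add_left : ∀ c c' a, χ (c + c') a = χ c a * χ c' a
  add_right : ∀ c a a', χ c (a + a') = χ c a * χ c a'
  sq : ∀ c a, χ c a * χ c a = 1
  sum_left : ∀ a, a ≠ 0 → ∑ c, χ c a = 0
  sum_right : ∀ c, c ≠ 0 → ∑ a, χ c a = 0
  card : (Fintype.card A : F) ≠ 0
  two : ∀ a : A, a + a = 0

variable {χ : A → A → F}

theorem Pair.zero_right (h : Pair χ) (c : A) : χ c 0 = 1 := by
  have h1 := h.two 0
  have h2 := h.add_right c 0 0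
  rw [h1, h.sq] at h2
  exact h2

theorem Pair.zero_left (h : Pair χ) (a : A) : χ 0 a = 1 := by
  have h1 := h.two 0
  have h2 := h.add_left 0 0 a
  rw [h1, h.sq] at h2
  exact h2

theorem Pair.ne_zero (h : Pair χ) (c a : A) : χ c a ≠ 0 := by
  intro h0
  have := h.sq c a
  rw [h0, mul_zero] at this
  exact zero_ne_one this

/-- every additive character is one of the `χ c` -/
theorem Pair.exists_of_char (h : Pair χ) {κ : A → F} (hadd : ∀ a b, κ (a + b) = κ a * κ b)
    (h0 : κ 0 = 1) : ∃ c, ∀ a, κ a = χ c a := by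
  classical
  have h1 : ∑ c, ∑ a, χ c a * κ a = (Fintype.card A : F) := by
    rw [Finset.sum_comm]
    rw [Finset.sum_eq_single (0 : A)]
    · simp only [h.zero_right, h0, mul_one, Finset.sum_const, Finset.card_univ, nsmul_eq_mul]
    · intro b _ hb
      rw [← Finset.sum_mul, h.sum_left b hb, zero_mul]
    · intro hn
      exact absurd (Finset.mem_univ _) hn
  have h2 : ∃ c, ∑ a, χ c a * κ a ≠ 0 := by
    by_contra hcon
    push Not at hcon
    rw [Finset.sum_eq_zero fun c _ => hcon c] at h1
    exact h.card h1.symm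
  obtain ⟨c, hc⟩ := h2
  refine ⟨c, ?_⟩
  have h3 : ∀ b, χ c b * κ b = 1 := by
    intro b
    have h4 : (χ c b * κ b) * ∑ a, χ c a * κ a = ∑ a, χ c a * κ a := by
      rw [Finset.mul_sum]
      rw [← Equiv.sum_comp (Equiv.addLeft b) (fun a => χ c a * κ a)]
      apply Finset.sum_congr rfl
      intro a _
      rw [Equiv.coe_addLeft, h.add_right, hadd]
      ring
    have h5 : (χ c b * κ b - 1) * ∑ a, χ c a * κ a = 0 := by rw [sub_mul, h4, one_mul, sub_self]
    rcases mul_eq_zero.1 h5 with h6 | h6
    · exact sub_eq_zero.1 h6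
    · exact absurd h6 hc
  intro a
  have h4 := h3 a
  have h5 := h.sq c a
  calc κ a = (χ c a * χ c a) * κ a := by rw [h5, one_mul]
    _ = χ c a * (χ c a * κ a) := by ring
    _ = χ c a := by rw [h4, mul_one]

variable {ι : Type*} [Fintype ι] [DecidableEq ι]

/-- the weight idempotents -/
noncomputable def E (χ : A → A → F) (Y : A → Matrix ι ι F) (c : A) : Matrix ι ι F :=
  (Fintype.card A : F)⁻¹ • ∑ a, χ c a • Y a

variable {Y : A → Matrix ι ι F}

theorem Y_mul_E (h : Pair χ) (hY : ∀ a b, Y (a + b) = Y a * Y b) (b c : A) : Y b * E χ Y c = χ c b • E χ Y c := by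
  unfold E
  rw [Matrix.mul_smul, smul_comm (χ c b)]
  congr 1
  rw [Finset.mul_sum, Finset.smul_sum]
  rw [← Equiv.sum_comp (Equiv.addLeft b) (fun a => χ c b • χ c a • Y a)]
  apply Finset.sum_congr rfl
  intro a _
  rw [Equiv.coe_addLeft, hY, h.add_right, Matrix.mul_smul, smul_smul, ← mul_assoc, h.sq, one_mul]

theorem E_mul_Y (h : Pair χ) (hY : ∀ a b, Y (a + b) = Y a * Y b) (b c : A) : E χ Y c * Y b = χ c b • E χ Y c := by
  unfold E
  rw [Matrix.smul_mul, smul_comm (χ c b)]
  congr 1
  rw [Finset.sum_mul, Finset.smul_sum]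
  rw [← Equiv.sum_comp (Equiv.addRight b) (fun a => χ c b • χ c a • Y a)]
  apply Finset.sum_congr rfl
  intro a _
  rw [Equiv.coe_addRight, hY, h.add_right, Matrix.smul_mul, smul_smul, mul_comm (χ c a), ← mul_assoc, h.sq, one_mul]

theorem E_mul_E_self (h : Pair χ) (hY : ∀ a b, Y (a + b) = Y a * Y b) (c : A) : E χ Y c * E χ Y c = E χ Y c := by
  have h1 : E χ Y c * E χ Y c = (Fintype.card A : F)⁻¹ • ∑ a, χ c a • (Y a * E χ Y c) := by
    conv_lhs => rw [E]
    rw [Matrix.smul_mul, Finset.sum_mul]
    simp only [Matrix.smul_mul]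
    rfl
  rw [h1]
  simp only [Y_mul_E h hY, smul_smul, h.sq, one_smul, Finset.sum_const, Finset.card_univ]
  rw [← Nat.cast_smul_eq_nsmul F, smul_smul, inv_mul_cancel₀ h.card, one_smul]

theorem E_mul_E (h : Pair χ) (hY : ∀ a b, Y (a + b) = Y a * Y b) {c c' : A} (hc : c ≠ c') : E χ Y c * E χ Y c' = 0 := by
  have h1 : E χ Y c * E χ Y c' = (Fintype.card A : F)⁻¹ • ∑ a, χ c a • (Y a * E χ Y c') := by
    conv_lhs => rw [E]
    rw [Matrix.smul_mul, Finset.sum_mul]
    simp only [Matrix.smul_mul]
  rw [h1]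
  simp only [Y_mul_E h hY, smul_smul, ← h.add_left]
  rw [← Finset.sum_smul, h.sum_right (c + c'), zero_smul, smul_zero]
  intro h2
  apply hc
  have h3 := h.two c'
  have : c + c' = c' + c' := by rw [h2, h3]
  exact add_right_cancel this

theorem sum_E (h : Pair χ) (hY0 : Y 0 = 1) : ∑ c, E χ Y c = 1 := by
  classical
  unfold E
  rw [← Finset.smul_sum, Finset.sum_comm]
  simp only [← Finset.sum_smul]
  rw [Finset.sum_eq_single (0 : A)]
  · simp only [h.zero_right, Finset.sum_const, Finset.card_univ, hY0, nsmul_eq_mul, mul_one]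
    rw [smul_smul, inv_mul_cancel₀ h.card, one_smul]
  · intro b _ hb
    rw [h.sum_left b hb, zero_smul]
  · intro hn
    exact absurd (Finset.mem_univ _) hn

/-- conjugation -/
theorem conj_E (g : Matrix ι ι F) {L : A → A} (hL : Function.Bijective L) {m : A → F}
    (hg : ∀ a, g * Y a = m a • (Y (L a) * g)) {c c' : A} (hc : ∀ a, χ c' (L a) = χ c a * m a) :
    g * E χ Y c = E χ Y c' * g := by
  unfold E
  rw [Matrix.mul_smul, Matrix.smul_mul]
  congr 1
  rw [Finset.mul_sum, Finset.sum_mul]
  rw [← Equiv.sum_comp (Equiv.ofBijective L hL) (fun a => χ c' a • Y a * g)]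
  apply Finset.sum_congr rfl
  intro a _
  rw [Equiv.ofBijective_apply, Matrix.mul_smul, hg, hc, Matrix.smul_mul, smul_smul]

/-- a matrix commuting with all `Y a` commutes with the idempotents -/
theorem comm_E {g : Matrix ι ι F} (hg : ∀ a, g * Y a = Y a * g) (c : A) : g * E χ Y c = E χ Y c * g := by
  unfold E
  rw [Matrix.mul_smul, Matrix.smul_mul, Finset.mul_sum, Finset.sum_mul]
  congr 1
  apply Finset.sum_congr rfl
  intro a _
  rw [Matrix.mul_smul, hg, Matrix.smul_mul]

end pair

/-! ### idempotents -/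

section idem

variable {F : Type*} [Field F] {ι : Type*} [Fintype ι] [DecidableEq ι]

/-- the sum of the ranks -/
theorem sum_rank {κ : Type*} [Fintype κ] {e : κ → Matrix ι ι F} (h1 : ∀ i, e i * e i = e i)
    (h2 : ∀ i j, i ≠ j → e i * e j = 0) (h3 : ∑ i, e i = 1) : ∑ i, (e i).rank = Fintype.card ι := by
  classical
  let f : (ι → F) ≃ₗ[F] ((i : κ) → LinearMap.range (e i).mulVecLin) :=
    { toFun := fun v i => ⟨(e i).mulVecLin v, LinearMap.mem_range_self _ v⟩
      map_add' := fun v w => by
        funext i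
        apply Subtype.ext
        show (e i).mulVecLin (v + w) = (e i).mulVecLin v + (e i).mulVecLin w
        rw [map_add]
      map_smul' := fun c v => by
        funext i
        apply Subtype.ext
        show (e i).mulVecLin (c • v) = c • (e i).mulVecLin v
        rw [map_smul]
      invFun := fun w => ∑ i, (w i : ι → F)
      left_inv := fun v => by
        show ∑ i, (e i).mulVecLin v = v
        rw [← LinearMap.sum_apply]
        have : ∑ i, (e i).mulVecLin = (∑ i, e i).mulVecLin := by
          apply LinearMap.ext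
          intro v
          rw [LinearMap.sum_apply, Matrix.mulVecLin_apply, Matrix.sum_mulVec]
          rfl
        rw [this, h3]
        simp
      right_inv := fun w => by
        funext i
        apply Subtype.ext
        show (e i).mulVecLin (∑ j, (w j : ι → F)) = w i
        rw [map_sum, Finset.sum_eq_single i]
        · obtain ⟨v, hv⟩ := (w i).2
          rw [← hv, Matrix.mulVecLin_apply, Matrix.mulVecLin_apply, Matrix.mulVec_mulVec, h1]
        · intro j _ hj
          obtain ⟨v, hv⟩ := (w j).2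
          rw [← hv, Matrix.mulVecLin_apply, Matrix.mulVecLin_apply, Matrix.mulVec_mulVec, h2 i j hj.symm,
            Matrix.zero_mulVec]
        · intro hn
          exact absurd (Finset.mem_univ _) hn }
  have h4 := f.finrank_eq
  rw [Module.finrank_fintype_fun_eq_card, Module.finrank_pi_fintype] at h4
  rw [h4]
  rfl

theorem rank_conj {g : (Matrix ι ι F)ˣ} {e e' : Matrix ι ι F} (h : (g : Matrix ι ι F) * e = e' * g) :
    e.rank = e'.rank := by
  have hu : IsUnit (g : Matrix ι ι F).det := (Matrix.isUnit_iff_isUnit_det _).1 g.isUnit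
  rw [← Matrix.rank_mul_eq_right_of_isUnit_det (g : Matrix ι ι F) e hu, h,
    Matrix.rank_mul_eq_left_of_isUnit_det (g : Matrix ι ι F) e' hu]

theorem eq_zero_of_rank {e : Matrix ι ι F} (h : e.rank = 0) : e = 0 := by
  have h1 : LinearMap.range e.mulVecLin = ⊥ := Submodule.finrank_eq_zero.1 h
  have h2 := LinearMap.range_eq_bot.1 h1
  apply Matrix.ext_of_mulVec_single
  intro i
  have h3 := LinearMap.congr_fun h2 (Pi.single i 1)
  rw [Matrix.mulVecLin_apply, LinearMap.zero_apply] at h3
  rw [h3, Matrix.zero_mulVec]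

/-- the image -/
abbrev W (e : Matrix ι ι F) : Submodule F (ι → F) := LinearMap.range e.mulVecLin

theorem mem_W {e : Matrix ι ι F} (he : e * e = e) {v : ι → F} : v ∈ W e ↔ e *ᵥ v = v := by
  constructor
  · rintro ⟨w, rfl⟩
    rw [Matrix.mulVecLin_apply, Matrix.mulVec_mulVec, he]
  · intro h
    exact ⟨v, h⟩

theorem finrank_W (e : Matrix ι ι F) : finrank F (W e) = e.rank := rfl

/-- the restriction to the image of an idempotent -/
noncomputable def res (e B : Matrix ι ι F) : W e →ₗ[F] W e :=
  ((e * B).mulVecLin.codRestrict (W e) (fun v => ⟨B *ᵥ v, by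
    rw [Matrix.mulVecLin_apply, Matrix.mulVecLin_apply, Matrix.mulVec_mulVec]⟩)).comp (W e).subtype

theorem res_apply (e B : Matrix ι ι F) (w : W e) : ((res e B w : W e) : ι → F) = (e * B) *ᵥ (w : ι → F) := rfl

variable {e : Matrix ι ι F}

theorem res_mul (he : e * e = e) {B : Matrix ι ι F} (hB : B * e = e * B) (C : Matrix ι ι F) :
    res e (B * C) = res e B * res e C := by
  apply LinearMap.ext
  intro w
  apply Subtype.ext
  rw [Module.End.mul_apply, res_apply, res_apply, res_apply, Matrix.mulVec_mulVec]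
  congr 1
  rw [Matrix.mul_assoc e B, ← Matrix.mul_assoc B e C, hB, ← Matrix.mul_assoc e, ← Matrix.mul_assoc e, ← Matrix.mul_assoc e e,
    he]

theorem res_smul (c : F) (B : Matrix ι ι F) : res e (c • B) = c • res e B := by
  apply LinearMap.ext
  intro w
  apply Subtype.ext
  rw [LinearMap.smul_apply, Submodule.coe_smul, res_apply, res_apply, Matrix.mul_smul, Matrix.smul_mulVec]

theorem res_one (he : e * e = e) : res e 1 = 1 := by
  apply LinearMap.ext
  intro w
  apply Subtype.ext
  rw [res_apply, Matrix.mul_one, Module.End.one_apply]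
  exact (mem_W he).1 w.2

theorem res_congr {B C : Matrix ι ι F} (he : e * e = e) (h : B * e = C * e) : res e B = res e C := by
  apply LinearMap.ext
  intro w
  apply Subtype.ext
  have hw := (mem_W he).1 w.2
  rw [res_apply, res_apply]
  conv_lhs => rw [← hw]
  conv_rhs => rw [← hw]
  rw [Matrix.mulVec_mulVec, Matrix.mulVec_mulVec, Matrix.mul_assoc, Matrix.mul_assoc, h]

theorem eq_of_res (he : e * e = e) {B C : Matrix ι ι F} (hB : B * e = e * B) (hC : C * e = e * C)
    (h : res e B = res e C) : B * e = C * e := by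
  apply Matrix.ext_of_mulVec_single
  intro i
  have h1 := LinearMap.congr_fun h ⟨e *ᵥ Pi.single i 1, LinearMap.mem_range_self _ _⟩
  have h2 := congrArg Subtype.val h1
  rw [res_apply, res_apply] at h2
  simp only [Matrix.mulVec_mulVec] at h2
  rw [← hB, ← hC, Matrix.mul_assoc, Matrix.mul_assoc, he] at h2
  exact h2

theorem isUnit_res (he : e * e = e) {g : (Matrix ι ι F)ˣ} (hg : (g : Matrix ι ι F) * e = e * g) :
    IsUnit (res e (g : Matrix ι ι F)) := by
  have hi : ((g⁻¹ : (Matrix ι ι F)ˣ) : Matrix ι ι F) * e = e * ((g⁻¹ : (Matrix ι ι F)ˣ) : Matrix ι ι F) := by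
    have h1 : ((g⁻¹ : (Matrix ι ι F)ˣ) : Matrix ι ι F) * ((g : Matrix ι ι F) * e) * ((g⁻¹ : (Matrix ι ι F)ˣ) : Matrix ι ι F) =
        ((g⁻¹ : (Matrix ι ι F)ˣ) : Matrix ι ι F) * (e * (g : Matrix ι ι F)) * ((g⁻¹ : (Matrix ι ι F)ˣ) : Matrix ι ι F) := by
      rw [hg]
    rw [← Matrix.mul_assoc, Units.inv_mul, Matrix.one_mul, Matrix.mul_assoc _ (e * (g : Matrix ι ι F)), Matrix.mul_assoc e,
      Units.mul_inv, Matrix.mul_one] at h1
    exact h1.symm
  refine ⟨⟨res e g, res e ((g⁻¹ : (Matrix ι ι F)ˣ) : Matrix ι ι F), ?_, ?_⟩, rfl⟩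
  · rw [← res_mul he hg, Units.mul_inv, res_one he]
  · rw [← res_mul he hi, Units.inv_mul, res_one he]

/-- anticommuting matrices: even rank -/
theorem even_rank (h2 : (2 : F) ≠ 0) (he : e * e = e) {x y : (Matrix ι ι F)ˣ} (hx : (x : Matrix ι ι F) * e = e * x)
    (hy : (y : Matrix ι ι F) * e = e * y)
    (hxy : (x : Matrix ι ι F) * y * e = -((y : Matrix ι ι F) * x * e)) : Even e.rank := by
  have h1 : res e ((x : Matrix ι ι F) * y) = res e ((-1 : F) • ((y : Matrix ι ι F) * x)) := by
    apply res_congr he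
    rw [hxy, Matrix.smul_mul, neg_smul, one_smul]
  rw [res_mul he hx, res_smul, res_mul he hy] at h1
  have h3 := congrArg LinearMap.det h1
  rw [LinearMap.det_smul, map_mul, map_mul, finrank_W] at h3
  have hux : IsUnit (LinearMap.det (res e (x : Matrix ι ι F))) := (isUnit_res he hx).map LinearMap.det
  have huy : IsUnit (LinearMap.det (res e (y : Matrix ι ι F))) := (isUnit_res he hy).map LinearMap.det
  have h4 : ((-1 : F) ^ e.rank - 1) * (LinearMap.det (res e (y : Matrix ι ι F)) * LinearMap.det (res e (x : Matrix ι ι F))) =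
      0 := by
    linear_combination -h3
  rcases mul_eq_zero.1 h4 with h5 | h5
  · by_contra hodd
    rw [Nat.not_even_iff_odd] at hodd
    rw [hodd.neg_one_pow] at h5
    apply h2
    linear_combination -h5
  · exact absurd h5 (mul_ne_zero huy.ne_zero hux.ne_zero)

/-- on a line everything is scalar -/
theorem scalar_of_rank_one (he : e * e = e) (hr : e.rank = 1) {B : Matrix ι ι F} (hB : B * e = e * B) :
    ∃ d : F, B * e = d • e := by
  have h1 : finrank F (W e) = 1 := hr
  obtain ⟨v, hv, hspan⟩ := finrank_eq_one_iff'.1 h1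
  obtain ⟨d, hd⟩ := hspan (res e B v)
  refine ⟨d, ?_⟩
  have h2 : res e B = res e (d • (1 : Matrix ι ι F)) := by
    rw [res_smul, res_one he]
    apply LinearMap.ext
    intro w
    obtain ⟨c, hc⟩ := hspan w
    rw [← hc, map_smul, ← hd, LinearMap.smul_apply, Module.End.one_apply, smul_comm]
  have h3 := eq_of_res he hB (by rw [Matrix.smul_mul, Matrix.mul_smul, Matrix.one_mul, Matrix.mul_one]) h2
  rw [h3, Matrix.smul_mul, Matrix.one_mul]

theorem anti_key (A X : Matrix (Fin 2) (Fin 2) F) (hA : A.trace = 0) (hX : X.trace = 0) :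
    A * X + X * A = (A * X).trace • (1 : Matrix (Fin 2) (Fin 2) F) := by
  rw [Matrix.trace_fin_two] at hA hX
  have a1 : A 1 1 = -A 0 0 := by linear_combination hA
  have x1 : X 1 1 = -X 0 0 := by linear_combination hX
  ext i j
  fin_cases i <;> fin_cases j <;>
    simp [Matrix.mul_apply, Fin.sum_univ_two, Matrix.trace_fin_two, a1, x1] <;> ring

theorem trace_zero_of_anti (h2 : (2 : F) ≠ 0) {n : Type*} [Fintype n] [DecidableEq n] {x y : Matrix n n F}
    (hy : IsUnit y) (hxy : x * y = -(y * x)) : x.trace = 0 := by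
  obtain ⟨u, rfl⟩ := hy
  have h1 : x = -((u : Matrix n n F) * x * ((u⁻¹ : (Matrix n n F)ˣ) : Matrix n n F)) := by
    rw [← neg_mul, ← hxy, mul_assoc, Units.mul_inv, mul_one]
  have h3 : x.trace = -x.trace := by
    conv_lhs => rw [h1]
    rw [Matrix.trace_neg, Matrix.trace_mul_comm, ← mul_assoc, Units.inv_mul, one_mul]
  have h4 : (2 : F) * x.trace = 0 := by linear_combination h3
  exact (mul_eq_zero.1 h4).resolve_left h2

/-- two by two matrices commuting with an anticommuting pair -/
theorem two_by_two (h2 : (2 : F) ≠ 0) {x y b : Matrix (Fin 2) (Fin 2) F} (hx : IsUnit x) (hy : IsUnit y)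
    (hxy : x * y = -(y * x)) (hbx : b * x = x * b) (hby : b * y = y * b) : ∃ d : F, b = d • (1 : Matrix (Fin 2) (Fin 2) F) := by
  have tx : x.trace = 0 := trace_zero_of_anti h2 hy hxy
  have ty : y.trace = 0 := trace_zero_of_anti h2 hx (by rw [hxy, neg_neg])
  set t := b.trace / 2 with ht
  set b' := b - t • (1 : Matrix (Fin 2) (Fin 2) F) with hb'
  have tb : b'.trace = 0 := by
    rw [hb', Matrix.trace_sub, Matrix.trace_smul, Matrix.trace_one, Fintype.card_fin, ht, smul_eq_mul]
    push_cast
    field_simp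
    ring
  have c1 : b' * x = x * b' := by
    rw [hb', sub_mul, mul_sub, hbx, Matrix.smul_mul, Matrix.mul_smul, Matrix.one_mul, Matrix.mul_one]
  have c2 : b' * y = y * b' := by
    rw [hb', sub_mul, mul_sub, hby, Matrix.smul_mul, Matrix.mul_smul, Matrix.one_mul, Matrix.mul_one]
  have key : ∀ z : Matrix (Fin 2) (Fin 2) F, IsUnit z → z.trace = 0 → b' * z = z * b' → ∃ α : F, b' = α • z := by
    intro z hz tz hc
    have k1 := anti_key b' z tb tz
    rw [← hc] at k1
    have k2 := anti_key z z tz tz
    have k3 : (2 : F) • (b' * z) = (b' * z).trace • (1 : Matrix (Fin 2) (Fin 2) F) := by rw [two_smul]; exact k1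
    have k4 : (2 : F) • (z * z) = (z * z).trace • (1 : Matrix (Fin 2) (Fin 2) F) := by rw [two_smul]; exact k2
    have k5 : (z * z).trace ≠ 0 := by
      intro h0
      rw [h0, zero_smul] at k4
      have h5 := (smul_eq_zero.1 k4).resolve_left h2
      have h6 : IsUnit (z * z) := hz.mul hz
      rw [h5] at h6
      exact not_isUnit_zero h6
    refine ⟨(b' * z).trace / (z * z).trace, ?_⟩
    have k6 : (2 : F) • (b' * z * z) = (b' * z).trace • z := by
      rw [← Matrix.smul_mul, k3, Matrix.smul_mul, Matrix.one_mul]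
    have k7 : (2 : F) • (b' * (z * z)) = (z * z).trace • b' := by
      rw [← Matrix.mul_smul, k4, Matrix.mul_smul, Matrix.mul_one]
    rw [mul_assoc, k7] at k6
    calc b' = ((z * z).trace)⁻¹ • ((z * z).trace • b') := by rw [smul_smul, inv_mul_cancel₀ k5, one_smul]
      _ = _ := by rw [k6, smul_smul, div_eq_inv_mul]
  obtain ⟨α, hα⟩ := key x hx tx c1
  obtain ⟨β, hβ⟩ := key y hy ty c2
  have h0 : b' = 0 := by
    by_contra hne
    have hα0 : α ≠ 0 := by
      rintro rfl
      exact hne (by rw [hα, zero_smul])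
    have h3 : x = (α⁻¹ * β) • y := by
      rw [← smul_smul, ← hβ, hα, smul_smul, inv_mul_cancel₀ hα0, one_smul]
    have h4 : x * y = y * x := by rw [h3, Matrix.smul_mul, Matrix.mul_smul]
    rw [h4] at hxy
    have h5 : (2 : F) • (y * x) = 0 := by
      rw [two_smul]
      nth_rewrite 1 [hxy]
      exact neg_add_cancel _
    have h6 := (smul_eq_zero.1 h5).resolve_left h2
    have h7 : IsUnit (y * x) := hy.mul hx
    rw [h6] at h7
    exact not_isUnit_zero h7
  exact ⟨t, by rw [← sub_eq_zero]; exact h0⟩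

/-- rank two: a matrix commuting with an anticommuting pair is scalar on the image -/
theorem scalar_of_rank_two (h2 : (2 : F) ≠ 0) (he : e * e = e) (hr : e.rank = 2) {x y : (Matrix ι ι F)ˣ}
    (hx : (x : Matrix ι ι F) * e = e * x) (hy : (y : Matrix ι ι F) * e = e * y)
    (hxy : (x : Matrix ι ι F) * y * e = -((y : Matrix ι ι F) * x * e)) {B : Matrix ι ι F} (hB : B * e = e * B)
    (hBx : B * x * e = x * B * e) (hBy : B * y * e = y * B * e) : ∃ d : F, B * e = d • e := by
  have hfr : finrank F (W e) = 2 := hr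
  let b : Module.Basis (Fin 2) F (W e) := Module.finBasisOfFinrankEq F (W e) hfr
  have hux := isUnit_res he hx
  have huy := isUnit_res he hy
  have h1 : res e (x : Matrix ι ι F) * res e (y : Matrix ι ι F) = -(res e (y : Matrix ι ι F) * res e (x : Matrix ι ι F)) := by
    rw [← res_mul he hx, ← res_mul he hy, ← neg_one_smul F (res e ((y : Matrix ι ι F) * x)), ← res_smul]
    apply res_congr he
    rw [hxy, Matrix.smul_mul, neg_smul, one_smul]
  have h3 : res e B * res e (x : Matrix ι ι F) = res e (x : Matrix ι ι F) * res e B := by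
    rw [← res_mul he hB, ← res_mul he hx]
    exact res_congr he hBx
  have h4 : res e B * res e (y : Matrix ι ι F) = res e (y : Matrix ι ι F) * res e B := by
    rw [← res_mul he hB, ← res_mul he hy]
    exact res_congr he hBy
  let φ := LinearMap.toMatrixAlgEquiv b
  obtain ⟨d, hd⟩ := two_by_two h2 (x := φ (res e (x : Matrix ι ι F))) (y := φ (res e (y : Matrix ι ι F)))
    (b := φ (res e B)) (hux.map φ) (huy.map φ) (by rw [← map_mul, h1, ← map_mul]; exact map_neg φ.toLinearMap _)
    (by rw [← map_mul, h3, map_mul]) (by rw [← map_mul, h4, map_mul])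
  refine ⟨d, ?_⟩
  have h5 : res e B = d • (1 : W e →ₗ[F] W e) := by
    apply φ.injective
    rw [hd, map_smul, map_one]
  have h6 : res e B = res e (d • (1 : Matrix ι ι F)) := by rw [h5, res_smul, res_one he]
  have h7 := eq_of_res he hB (by rw [Matrix.smul_mul, Matrix.mul_smul, Matrix.one_mul, Matrix.mul_one]) h6
  rw [h7, Matrix.smul_mul, Matrix.one_mul]

/-- the trace of an idempotent -/
theorem trace_idem (he : e * e = e) : e.trace = (e.rank : F) := by
  have h1 : LinearMap.IsProj (W e) e.mulVecLin := ⟨fun v => LinearMap.mem_range_self _ v, fun v hv => (mem_W he).1 hv⟩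
  have h3 := h1.trace
  rw [finrank_W] at h3
  rw [← h3]
  have : LinearMap.trace F (ι → F) e.mulVecLin = e.trace := by
    rw [← Matrix.toLin'_apply']
    exact Matrix.trace_toLin'_eq e
  exact this.symm

end idem

end Cfsg.Agent.H814.Wt
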